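import Cfsg.Agent.Lib.Presented.Fi22Mult.Triple
import Cfsg.Agent.Lib.Presented.Fi23Simple
import Cfsg.Agent.Lib.SchurSmall18.StemTools

/-!
# The Schur multiplier of Fi₂₂ is cyclic of order six

The double cover is the point stabiliser inside Fi₂₃; it is joined with the triple cover.
-/

set_option autoImplicit false

namespace CfsgLib.Fi22Mult

open CfsgLib.Presented

/-- A stem extension with kernel of order two. -/
theorem double_stem : Cfsg.IsStemExtension Fi23Simple.toFi22 ∧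
    Nonempty (Fi23Simple.toFi22.ker ≃* Multiplicative (ZMod 2)) := by
  refine ⟨⟨Fi23Simple.toFi22_surjective, Fi23Simple.ker_le_center, fun g _ => ?_⟩, ?_⟩
  · have h := DFunLike.congr_fun
      (Fi23Simple.killed (fun a b => mul_comm a b) (Abelianization.of (G := Fi23Cosets.H))) g
    exact (QuotientGroup.eq_one_iff _).1 h
  · have hcyc : IsCyclic Fi23Simple.toFi22.ker :=
      isCyclic_of_prime_card (hp := ⟨Nat.prime_two⟩) Fi23Simple.card_ker
    exact ⟨(zmodCyclicMulEquiv hcyc).symm.trans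
      (AddEquiv.toMultiplicative (ZMod.ringEquivCongr Fi23Simple.card_ker).toAddEquiv)⟩

/-- The Schur multiplier. -/
theorem fi22_multiplier : Cfsg.HasCyclicSchurMultiplier Cfsg.Spor.Fi22 6 := by
  refine ⟨?_, fun Γ _ _ σ hσ => ?_⟩
  · obtain ⟨Γ, _, _, τ, hτ, ⟨e⟩⟩ := exists_triple
    obtain ⟨hd, ⟨f⟩⟩ := double_stem
    have : Finite Fi23Cosets.H := Nat.finite_of_card_ne_zero (by rw [Fi23Order.card_H]; norm_num)
    obtain ⟨ρ, hρ, hker⟩ := CfsgLib.SchurSmall18.exists_join_zmod hτ hd (by norm_num) e f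
    exact ⟨_, inferInstance, inferInstance, ρ, hρ, hker⟩
  · obtain ⟨ζ, hζ, h6, hle⟩ := exists_generator hσ
    let z : σ.ker := ⟨ζ, hζ⟩
    have hz : z ^ 6 = 1 := Subtype.ext h6
    refine ⟨⟨⟨fun a => z ^ a.toAdd.val, by simp⟩, fun a b => ?_⟩, fun w => ?_⟩
    · show z ^ (a.toAdd + b.toAdd).val = z ^ a.toAdd.val * z ^ b.toAdd.val
      rw [ZMod.val_add, ← pow_add, ← pow_eq_pow_mod _ hz]
    · obtain ⟨k, hk⟩ := hle w.2
      refine ⟨Multiplicative.ofAdd (k : ZMod 6), Subtype.ext ?_⟩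
      show ζ ^ ((k : ZMod 6)).val = w.1
      rw [← hk, ← zpow_natCast, ZMod.val_intCast]
      exact (zpow_eq_zpow_emod' k h6).symm

end CfsgLib.Fi22Mult
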