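import Cfsg.Agent.Lib.Presented.Word
import Cfsg.Agent.Lib.Presented.Fi22Mult.Data

/-!
# Words for the multiplier of the presented Fischer group on 22 letters
-/

set_option autoImplicit false
set_option maxRecDepth 100000

namespace CfsgLib.Fi22Mult

open CfsgLib.Presented

/-- The edges of the diagram; the tenth letter is a copy of the ninth. -/
def edges : List (ℕ × ℕ) :=
  [(0, 1), (1, 2), (2, 3), (3, 4), (3, 7), (4, 5), (5, 6), (7, 8), (7, 9)]

/-- The spider word. -/
def spider : List ℕ := [3, 2, 1, 3, 4, 5, 3, 7, 8]

/-- A word of type E₇ in the centraliser of the first generator. -/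
def wordC : List ℕ := [2, 3, 4, 5, 6, 7, 8]

/-- A product of three conjugates of the spider relator. -/
def tripleWord : List ℕ :=
  conj1 ++ wpow spider 10 ++ conj1.reverse ++ wpow spider 10 ++ conj2 ++ wpow spider 10 ++ conj2.reverse

end CfsgLib.Fi22Mult
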