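import Cfsg.Agent.Lib.Presented.Cert.Fi22UCert
import Cfsg.Agent.Lib.Presented.Fi22Mult.Words

/-!
# A word of type E₇ is trivial
-/

set_option autoImplicit false
set_option maxRecDepth 100000

namespace CfsgLib.Fi22Mult

open CfsgLib.Presented

theorem wordC_ok : Fi22UCert.rep.relsOK [wpow wordC 9] = true := by decide +kernel

end CfsgLib.Fi22Mult
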