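import Cfsg.Agent.Lib.Presented.Fi23Mult.Moves
import Cfsg.Agent.Lib.Presented.Fi22Mult.Words

/-!
# A rewriting certificate, checked
-/

set_option autoImplicit false
set_option maxRecDepth 100000

namespace CfsgLib.Fi22Mult

open CfsgLib.Presented
open CfsgLib.Fi23Mult (runW)

theorem movesS_ok : runW edges tripleWord movesS = some [] := by decide +kernel

end CfsgLib.Fi22Mult
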