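import Cfsg.Agent.Lib.Presented.Fi22UCosets
import Cfsg.Agent.Lib.Presented.Fi22Mult.CheckA
import Cfsg.Agent.Lib.Presented.Fi22Mult.CheckB
import Cfsg.Agent.Lib.Presented.Fi22Mult.CheckS
import Cfsg.Agent.Lib.Presented.Fi22Mult.CheckC

/-!
# Kernel checks for the multiplier of the presented Fischer group on 22 letters
-/
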