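import Cfsg.Agent.Lib.Presented.Fi22Mult.Upper

/-!
# A generator of the kernel of a stem extension of Fi₂₂

Shifting the lifts makes them involutions with the first value of type E₇ trivial; modulo the product of
the two remaining values they define a section.
-/

set_option autoImplicit false
set_option maxRecDepth 8000

namespace CfsgLib.Fi22Mult

open CfsgLib.Presented
open CfsgLib.Presented.Fi22UCosets (ev letters letters_valid nodes_valid full idxOf relWords_eq rels_hold)
open CfsgLib.Fi23Mult (adjB Holds)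
open scoped commutatorElement

universe u

variable {Γ : Type u} [Group Γ] {σ : Γ →* Cfsg.Spor.Fi22}

theorem idx_lt (g : Cfsg.Spor.Fi22.Gen) : idxOf g < 9 := by cases g <;> decide

/-- The kernel of a stem extension is generated by one element of order dividing six. -/
theorem exists_generator (hσ : Cfsg.IsStemExtension σ) :
    ∃ ζ : Γ, σ ζ = 1 ∧ ζ ^ 6 = 1 ∧ σ.ker ≤ Subgroup.zpowers ζ := by
  obtain ⟨hsur, hc, hk⟩ := hσ
  obtain ⟨S, c, hS, hσc, H⟩ := exists_good_lifts hsur hc
  have kc : ∀ z, σ z = 1 → ∀ g, Commute z g := fun z hz g => CfsgLib.Schur.ker_commute hc hz g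
  have hval : ∀ w ∈ Fi22UCert.relWords, (∀ x ∈ w, x < 9) → σ (evW S w) = 1 := by
    intro w hw hlt
    have h := rels_hold w hw
    rw [evW] at h ⊢
    rw [map_list_prod, List.map_map,
      List.map_congr_left (f := ⇑σ ∘ S) (g := ev) fun x hx => hS x (hlt x hx)]
    exact h
  obtain ⟨l1, l2, l3, -, -, -, -, -, hlt⟩ := lengths
  set r1 := evW S (wpow spider 10) with hr1
  set r2 := evW S (wpow wordA 9) with hr2
  set r3 := evW S (wpow wordB 9) with hr3
  have s1 : σ r1 = 1 := hval _ (List.contains_iff_mem.1 extra_contains.1) fun x hx => hlt x (by simp [hx])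
  have s2 : σ r2 = 1 := hval _ (List.contains_iff_mem.1 extra_contains.2.1) fun x hx => hlt x (by simp [hx])
  have s3 : σ r3 = 1 := hval _ (List.contains_iff_mem.1 extra_contains.2.2) fun x hx => hlt x (by simp [hx])
  have v1 : r1 ^ 3 * c ^ 19 = c ^ 154 := value_spider H (kc r1 s1)
  have v2 : r2 ^ 2 = c ^ 63 := value_A H
  have v3 : r3 ^ 2 = c ^ 63 := value_B H
  obtain ⟨ω, hω⟩ : ∃ ω, ω = r2⁻¹ * c ^ 31 := ⟨_, rfl⟩
  have sω : σ ω = 1 := by rw [hω, map_mul, map_inv, s2, map_pow, hσc, one_pow, inv_one, one_mul]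
  have hωc := kc ω sω
  have hω2 : ω ^ 2 * c = 1 := by
    rw [hω, (kc r2 s2 (c ^ 31)).inv_left.mul_pow, inv_pow, v2, ← pow_mul, mul_assoc, ← pow_succ,
      inv_mul_cancel]
  have hωinv : ω ^ 2 = c⁻¹ := eq_inv_of_mul_eq_one_left hω2
  set T := fun x => S x * ω with hT
  have sT : ∀ x < 9, σ (T x) = ev x := fun x hx => by rw [hT, map_mul, hS x hx, sω, mul_one]
  have hval' : ∀ w, evW T w = evW S w * ω ^ w.length := evW_shift hωc
  set A := evW T (wpow spider 10) with hA
  set D := evW T (wpow wordB 9) with hD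
  have hE : evW T (wpow wordA 9) = 1 := by
    rw [hval', ← hr2, l2, show 63 = 2 * 31 + 1 from rfl, pow_succ, pow_mul, hωinv, inv_pow, hω]
    rw [← mul_assoc ((c ^ 31)⁻¹), ((H.central r2⁻¹).pow_left 31).inv_left.eq]
    group
  have sA : σ A = 1 := by rw [hA, hval', map_mul, s1, map_pow, sω, one_pow, one_mul]
  have sD : σ D = 1 := by rw [hD, hval', map_mul, s3, map_pow, sω, one_pow, one_mul]
  have hA3 : A ^ 3 = 1 := by
    rw [hA, hval', ← hr1, l1, (hωc r1).symm.pow_right 90 |>.mul_pow, ← pow_mul,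
      show 90 * 3 = 2 * 135 from rfl, pow_mul, hωinv, inv_pow, mul_inv_eq_one]
    rw [show c ^ 154 = c ^ 135 * c ^ 19 by rw [← pow_add]] at v1
    exact mul_right_cancel v1
  have hD2 : D ^ 2 = 1 := by
    rw [hD, hval', ← hr3, l3, (hωc r3).symm.pow_right 63 |>.mul_pow, ← pow_mul, mul_comm 63 2, pow_mul,
      hωinv, inv_pow, v3, mul_inv_cancel]
  obtain ⟨ζ, hζ⟩ : ∃ ζ, ζ = A * D := ⟨_, rfl⟩
  have sζ : σ ζ = 1 := by rw [hζ, map_mul, sA, sD, one_mul]
  have hAD : Commute A D := kc A sA D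
  have hζ6 : ζ ^ 6 = 1 := by
    rw [hζ, hAD.mul_pow, pow_mul A 3 2, hA3, one_pow, pow_mul D 2 3, hD2, one_pow, one_mul]
  refine ⟨ζ, sζ, hζ6, ?_⟩
  set N := Subgroup.zpowers ζ
  have hNc : N ≤ Subgroup.center Γ := (Subgroup.zpowers_le (g := ζ)).2 (hc sζ)
  have : N.Normal := ⟨fun n hn g => by
    rw [Subgroup.mem_center_iff.1 (hNc hn) g, mul_inv_cancel_right]
    exact hn⟩
  have mA : A ∈ N := by
    have e : ζ ^ 4 = A := by
      rw [hζ, hAD.mul_pow, pow_mul D 2 2, hD2, one_pow, mul_one, pow_succ, hA3, one_mul]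
    exact e ▸ Subgroup.npow_mem_zpowers ζ 4
  have mD : D ∈ N := by
    have e : ζ ^ 3 = D := by
      rw [hζ, hAD.mul_pow, hA3, one_mul, pow_succ, hD2, one_mul]
    exact e ▸ Subgroup.npow_mem_zpowers ζ 3
  let q : Γ →* Γ ⧸ N := QuotientGroup.mk' N
  let σ' : Γ ⧸ N →* Cfsg.Spor.Fi22 := QuotientGroup.lift N σ (by
    rw [Subgroup.zpowers_le]
    exact sζ)
  set U := fun x => q (T x) with hU
  have hqU : ∀ w, evW U w = q (evW T w) := fun w => by
    rw [evW, evW, map_list_prod, List.map_map]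
    rfl
  have HU : Holds edges U 1 := by
    refine ⟨fun x hx => ?_, fun g => Commute.one_left g, fun x hx y hy hne ha => ?_, fun x hx y hy ha => ?_⟩
    · simp only [hU, ← map_mul, hT]
      rw [(hωc (S x)).mul_mul_mul_comm, H.sq x hx, ← sq, (H.central _).eq, hω2, map_one]
    · simp only [hU, ← map_mul, hT]
      rw [(hωc (S y)).mul_mul_mul_comm, (hωc (S x)).mul_mul_mul_comm, H.comm x hx y hy hne ha]
    · simp only [hU, ← map_mul, hT]
      rw [(hωc (S y)).mul_mul_mul_comm, ((hωc (S x)).mul_left (hωc (S x))).mul_mul_mul_comm,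
        H.braid x hx y hy ha, (hωc (S x)).mul_mul_mul_comm,
        ((hωc (S y)).mul_left (hωc (S y))).mul_mul_mul_comm]
  have q1 : ∀ {z}, z ∈ N → q z = 1 := fun h => (QuotientGroup.eq_one_iff _).2 h
  have hrel : ∀ w ∈ Fi22UCert.relWords, evW U w = 1 := fun w hw =>
    relWord_one HU (by rw [hqU]; exact q1 mA) (by rw [hqU, hE, map_one]) (by rw [hqU]; exact q1 mD) hw
  let f : Cfsg.Spor.Fi22.Gen → Γ ⧸ N := fun g => U (idxOf g)
  have hf : ∀ g ∈ letters.nodes, f g * f g = 1 := fun g _ => HU.sq _ ((idx_lt g).trans (by decide))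
  have hidx : ∀ y : Fin 9, idxOf (Fi22UCosets.genOf y).1 = y ∧ (Fi22UCosets.genOf y).2 = true := by
    decide +kernel
  have hev : ∀ x < 9, letters.ev f x = U x := fun x hx => by
    obtain ⟨h1, h2⟩ := hidx ⟨x, hx⟩
    show (if x < 9 then cond (Fi22UCosets.genOf x).2 (f (Fi22UCosets.genOf x).1)
      (f (Fi22UCosets.genOf x).1)⁻¹ else 1) = _
    rw [if_pos hx, h2, cond_true]
    exact congrArg U h1
  have hone : ∀ w ∈ Fi22UCert.relWords, evW (letters.ev f) w = 1 := fun w hw => by
    have hl : ∀ x ∈ w, x < 9 := by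
      have e : (Fi22UCert.relWords.all fun w => w.all fun x => Nat.blt x 9) = true := by decide +kernel
      intro x hx
      have := List.all_eq_true.1 (List.all_eq_true.1 e w hw) x hx
      rwa [Nat.blt_eq] at this
    rw [evW, List.map_congr_left fun x hx => hev x (hl x hx)]
    exact hrel w hw
  have hkills := Letters.kills (extra := Cfsg.Spor.Fi22.extra) letters_valid nodes_valid full hf
    (fun w hw => hone w (relWords_eq ▸ List.mem_append.2 (Or.inl hw)))
    (fun w hw => hone w (relWords_eq ▸ List.mem_append.2 (Or.inr hw)))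
  let θ : Cfsg.Spor.Fi22 →* Γ ⧸ N := PresentedGroup.toGroup hkills
  have hθ : σ'.comp θ = MonoidHom.id _ := by
    refine PresentedGroup.ext fun g => ?_
    show σ' (PresentedGroup.toGroup hkills (PresentedGroup.of g)) = PresentedGroup.of g
    rw [PresentedGroup.toGroup.of]
    show σ (T (idxOf g)) = _
    rw [sT _ (idx_lt g)]
    exact (Letters.ev_idx (L := letters) letters_valid (Letters.of_sq nodes_valid) (full g).1 (full g).2).1
  have hσθ : ∀ g, σ' (θ g) = g := fun g => DFunLike.congr_fun hθ g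
  have hc' : σ'.ker ≤ Subgroup.center (Γ ⧸ N) := by
    intro z hz
    obtain ⟨x, rfl⟩ := QuotientGroup.mk'_surjective N z
    rw [Subgroup.mem_center_iff]
    intro y
    obtain ⟨y, rfl⟩ := QuotientGroup.mk'_surjective N y
    rw [← map_mul, ← map_mul, (kc x hz y).eq]
  have hrange : commutator (Γ ⧸ N) ≤ θ.range := by
    rw [commutator_def, Subgroup.commutator_le]
    intro x _ y _
    exact ⟨⁅σ' x, σ' y⁆, by
      rw [map_commutatorElement]
      exact CfsgLib.Schur.commutator_congr hc' (hσθ _) (hσθ _)⟩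
  intro z hz
  have hzc : q z ∈ commutator (Γ ⧸ N) := by
    have h := Subgroup.mem_map_of_mem q (hk hz)
    rw [commutator_def, Subgroup.map_commutator] at h
    rw [commutator_def]
    exact Subgroup.commutator_mono le_top le_top h
  obtain ⟨g, hg⟩ := hrange hzc
  refine (QuotientGroup.eq_one_iff z).1 (show q z = 1 from ?_)
  have h := hσθ g
  rw [hg] at h
  rw [← hg, ← h, show σ' (q z) = σ z from rfl, MonoidHom.mem_ker.1 hz, map_one]

end CfsgLib.Fi22Mult
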