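import Cfsg.Agent.Lib.Presented.Fi22Mult.Check
import Cfsg.Agent.Lib.Presented.Fi22Order
import Cfsg.Agent.Lib.Schur.Criteria

/-!
# Lifts of the Coxeter generators of Fi₂₂ to a central extension

The lifts can be chosen with a common central square, satisfying the braid and commutation relations.
-/

set_option autoImplicit false
set_option maxRecDepth 8000

namespace CfsgLib.Fi22Mult

open CfsgLib.Presented
open CfsgLib.Presented.Fi22UCosets (ev rels_hold)
open CfsgLib.Fi23Mult (adjB runW Holds)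
open scoped commutatorElement

theorem adjB_symm (x y : ℕ) : adjB edges x y = adjB edges y x := Bool.or_comm _ _

theorem rel_tables : ∀ x : Fin 9, ∀ y : Fin 9, (x : ℕ) < y →
    Fi22UCert.relWords.contains
      (if adjB edges x y then [(x : ℕ), y, x, y, x, y] else [(x : ℕ), y, x, y]) = true := by
  decide +kernel

theorem ev_sq {x : ℕ} (hx : x < 9) : ev x * ev x = 1 := by
  have h := Fi22UCosets.ev_inv x hx
  have e : ∀ y : Fin 9, Fi22UCert.alphabet.invl y = y := by decide +kernel
  rwa [e ⟨x, hx⟩] at h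

theorem ev_rel {x y : ℕ} (hy : y < 9) (hlt : x < y) :
    evW ev (if adjB edges x y then [x, y, x, y, x, y] else [x, y, x, y]) = 1 :=
  rels_hold _ (List.contains_iff_mem.1 (rel_tables ⟨x, hlt.trans hy⟩ ⟨y, hy⟩ hlt))

theorem ev_comm {x y : ℕ} (hx : x < 9) (hy : y < 9) (hne : x ≠ y)
    (ha : adjB edges x y = false) : ev x * ev y = ev y * ev x := by
  have key : ∀ a b : ℕ, a < 9 → b < 9 → a < b → adjB edges a b = false →
      ev a * ev b = ev b * ev a := fun a b ha' hb' hlt h => by
    have h1 := ev_rel hb' hlt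
    rw [h] at h1
    simp only [Bool.false_eq_true, if_false, evW_cons, evW_nil, mul_one] at h1
    rw [← mul_assoc] at h1
    rw [eq_inv_of_mul_eq_one_left h1, mul_inv_rev, inv_eq_of_mul_eq_one_right (ev_sq ha'),
      inv_eq_of_mul_eq_one_right (ev_sq hb')]
  rcases Nat.lt_or_gt_of_ne hne with h | h
  · exact key x y hx hy h ha
  · exact (key y x hy hx h (adjB_symm x y ▸ ha)).symm

theorem ev_braid {x y : ℕ} (hx : x < 9) (hy : y < 9) (ha : adjB edges x y = true) :
    ev x * ev y * ev x = ev y * ev x * ev y := by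
  have key : ∀ a b : ℕ, a < 9 → b < 9 → a < b → adjB edges a b = true →
      ev a * ev b * ev a = ev b * ev a * ev b := fun a b ha' hb' hlt h => by
    have h1 := ev_rel hb' hlt
    rw [h] at h1
    simp only [if_true, evW_cons, evW_nil, mul_one] at h1
    have h2 : (ev a * ev b * ev a) * (ev b * ev a * ev b) = 1 := by simpa [mul_assoc] using h1
    rw [eq_inv_of_mul_eq_one_left h2, mul_inv_rev, mul_inv_rev,
      inv_eq_of_mul_eq_one_right (ev_sq ha'), inv_eq_of_mul_eq_one_right (ev_sq hb'), mul_assoc]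
  have hne : x ≠ y := by
    rintro rfl
    have e : ∀ a : Fin 9, adjB edges a a = false := by decide
    exact absurd (e ⟨x, hx⟩) (by simp [ha])
  rcases Nat.lt_or_gt_of_ne hne with h | h
  · exact key x y hx hy h ha
  · exact (key y x hy hx h (adjB_symm x y ▸ ha)).symm

/-- A checked word is trivial. -/
theorem ev_checked {w : List ℕ} (h : Fi22UCert.rep.relsOK [w] = true) : evW ev w = 1 := by
  have hlt : ∀ x ∈ w, x < Fi22UCert.rep.A.eps := by
    intro x hx
    have h' := h
    simp only [Rep.relsOK, List.all_eq_true, Bool.and_eq_true] at h'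
    have := (h' w List.mem_cons_self).1 x hx
    rwa [Nat.blt_eq] at this
  refine Fi22Order.phi_injective ?_
  rw [map_one, evW, map_list_prod, List.map_map, List.map_congr_left (f := ⇑Fi22UCosets.phi ∘ ev)
    (g := Fi22UCert.rep.perm Fi22UCosets.rep_valid) fun x hx => Fi22UCosets.phi_ev x (hlt x hx)]
  exact Rep.evW_eq_one Fi22UCosets.rep_valid h List.mem_cons_self

section Generic

variable {G Γ : Type*} [Group G] [Group Γ] {σ : Γ →* G}

/-- Passing a letter changes by a central factor. -/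
theorem pass_word {S : ℕ → Γ} {j ε : Γ} (hε : ∀ g, Commute ε g) :
    ∀ {l : List ℕ}, (∀ x ∈ l, S x * j = j * S x * ε) → evW S l * j = j * evW S l * ε ^ l.length
  | [], _ => by simp
  | x :: l, h => by
    rw [evW_cons, mul_assoc, pass_word hε fun y hy => h y (List.mem_cons_of_mem _ hy),
      ← mul_assoc (S x), ← mul_assoc (S x), h x List.mem_cons_self, List.length_cons, pow_succ']
    rw [mul_assoc (j * S x) ε, (hε (evW S l)).eq]
    simp only [mul_assoc]

variable (hc : σ.ker ≤ Subgroup.center Γ)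

include hc

/-- A lift of a braid partner with the same square. -/
theorem step_lift (hsur : Function.Surjective σ) {a b : G} (hab : a * b * a = b * a * b)
    (ha : a * a = 1) {tx : Γ} (htx : σ tx = a) :
    ∃ ty, σ ty = b ∧ tx * ty * tx = ty * tx * ty ∧ ty * ty = tx * tx := by
  obtain ⟨ty', hty'⟩ := hsur b
  set u := tx * ty'
  have hσu : σ (u * tx * u⁻¹) = b := by
    simp only [u, map_mul, map_inv, htx, hty']
    rw [hab, mul_assoc b a b, mul_inv_cancel_right]
  refine ⟨u * tx * u⁻¹, hσu, ?_, ?_⟩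
  · have hz : σ (ty'⁻¹ * (u * tx * u⁻¹)) = 1 := by rw [map_mul, map_inv, hty', hσu, inv_mul_cancel]
    set z := ty'⁻¹ * (u * tx * u⁻¹)
    have hzc := fun g => CfsgLib.Schur.ker_commute hc hz g
    have e : u * tx * u⁻¹ = ty' * z := (mul_inv_cancel_left _ _).symm
    calc tx * (u * tx * u⁻¹) * tx = u * (z * tx) := by
          rw [e]; simp only [u, mul_assoc]
      _ = u * tx * z := by rw [(hzc tx).eq, ← mul_assoc]
      _ = (u * tx * u⁻¹) * u * z := by group
      _ = (u * tx * u⁻¹) * tx * (u * tx * u⁻¹) := by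
          conv_rhs => arg 2; rw [e]
          simp only [u, mul_assoc]
  · have hsq : σ (tx * tx) = 1 := by rw [map_mul, htx, ha]
    calc u * tx * u⁻¹ * (u * tx * u⁻¹) = u * (tx * tx) * u⁻¹ := by group
      _ = tx * tx := by rw [← (CfsgLib.Schur.ker_commute hc hsq u).eq, mul_inv_cancel_right]

/-- The commutator of two lifts moves along a braid. -/
theorem comm_move {p q r : Γ} (hbr : p * q * p = q * p * q)
    (hpr : σ p * σ r = σ r * σ p) (hqr : σ q * σ r = σ r * σ q) : ⁅q, r⁆ = ⁅p, r⁆ := by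
  set u := p * q
  have e1 : q = u * p * u⁻¹ := by
    rw [eq_mul_inv_iff_mul_eq, ← mul_assoc]
    exact hbr.symm
  have e2 : σ r = σ (u * r * u⁻¹) := by
    simp only [u, map_mul, map_inv]
    rw [eq_mul_inv_iff_mul_eq, ← mul_assoc, ← hpr, mul_assoc, ← hqr, ← mul_assoc]
  have hk : σ ⁅p, r⁆ = 1 := by
    rw [map_commutatorElement]
    exact commutatorElement_eq_one_iff_mul_comm.2 hpr
  rw [e1, CfsgLib.Schur.commutator_congr hc (rfl : σ (u * p * u⁻¹) = _) e2,
    show ⁅u * p * u⁻¹, u * r * u⁻¹⁆ = u * ⁅p, r⁆ * u⁻¹ by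
      simp only [commutatorElement_def]; group,
    ← (CfsgLib.Schur.ker_commute hc hk u).eq, mul_inv_cancel_right]

end Generic

universe u

variable {Γ : Type u} [Group Γ] {σ : Γ →* Cfsg.Spor.Fi22} (hsur : Function.Surjective σ)
  (hc : σ.ker ≤ Subgroup.center Γ)

include hsur hc

/-- Lifts with common square satisfying the braid relations. -/
theorem exists_braid_lifts : ∃ (S : ℕ → Γ) (c : Γ), (∀ x < 9, σ (S x) = ev x) ∧ S 9 = S 8 ∧ σ c = 1 ∧
    (∀ x < 9, S x * S x = c) ∧
    ∀ x < 9, ∀ y < 9, adjB edges x y = true → S x * S y * S x = S y * S x * S y := by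
  have step : ∀ x y : ℕ, x < 9 → y < 9 → adjB edges x y = true → ∀ tx : Γ, σ tx = ev x →
      ∃ ty, σ ty = ev y ∧ tx * ty * tx = ty * tx * ty ∧ ty * ty = tx * tx :=
    fun x y hx hy ha tx htx => step_lift hc hsur (ev_braid hx hy ha) (ev_sq hx) htx
  obtain ⟨t0, h0⟩ := hsur (ev 0)
  obtain ⟨t1, h1, b01, q1⟩ := step 0 1 (by decide) (by decide) (by decide) t0 h0
  obtain ⟨t2, h2, b12, q2⟩ := step 1 2 (by decide) (by decide) (by decide) t1 h1
  obtain ⟨t3, h3, b23, q3⟩ := step 2 3 (by decide) (by decide) (by decide) t2 h2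
  obtain ⟨t4, h4, b34, q4⟩ := step 3 4 (by decide) (by decide) (by decide) t3 h3
  obtain ⟨t5, h5, b45, q5⟩ := step 4 5 (by decide) (by decide) (by decide) t4 h4
  obtain ⟨t6, h6, b56, q6⟩ := step 5 6 (by decide) (by decide) (by decide) t5 h5
  obtain ⟨t7, h7, b37, q7⟩ := step 3 7 (by decide) (by decide) (by decide) t3 h3
  obtain ⟨t8, h8, b78, q8⟩ := step 7 8 (by decide) (by decide) (by decide) t7 h7
  refine ⟨fun x => [t0, t1, t2, t3, t4, t5, t6, t7, t8, t8].getD x 1, t0 * t0, ?_, rfl,
    by rw [map_mul, h0, ev_sq (by decide)], ?_, ?_⟩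
  · intro x hx; interval_cases x <;> simpa
  · intro x hx; interval_cases x <;> simp_all
  · intro x hx y hy ha
    interval_cases x <;> interval_cases y <;>
      first | exact absurd ha (by decide) | assumption | exact Eq.symm (by assumption)

/-- Lifts with a common square satisfying the Coxeter relations. -/
theorem exists_good_lifts : ∃ (S : ℕ → Γ) (c : Γ), (∀ x < 9, σ (S x) = ev x) ∧ σ c = 1 ∧
    Holds edges S c := by
  obtain ⟨S, c, hσ, h98, hσc, hsq, hbr⟩ := exists_braid_lifts hsur hc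
  have hcc : ∀ g, Commute c g := fun g => CfsgLib.Schur.ker_commute hc hσc g
  have mv : ∀ x y z : ℕ, x < 9 → y < 9 → z < 9 → adjB edges x y = true →
      (x ≠ z ∧ adjB edges x z = false) → (y ≠ z ∧ adjB edges y z = false) →
      ⁅S y, S z⁆ = ⁅S x, S z⁆ := fun x y z hx hy hz hxy hxz hyz =>
    comm_move hc (hbr x hx y hy hxy)
      (by rw [hσ x hx, hσ z hz]; exact ev_comm hx hz hxz.1 hxz.2)
      (by rw [hσ y hy, hσ z hz]; exact ev_comm hy hz hyz.1 hyz.2)
  obtain ⟨ε, hεdef⟩ : ∃ ε, ⁅S 2, S 0⁆ = ε := ⟨_, rfl⟩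
  have hσε : σ ε = 1 := by
    rw [← hεdef, map_commutatorElement, hσ 2 (by decide), hσ 0 (by decide)]
    exact commutatorElement_eq_one_iff_mul_comm.2 (ev_comm (by decide) (by decide) (by decide) (by decide))
  have hεc : ∀ g, Commute ε g := fun g => CfsgLib.Schur.ker_commute hc hσε g
  have e3 : ⁅S 3, S 0⁆ = ε := (mv 2 3 0 (by decide) (by decide) (by decide) (by decide) (by decide) (by decide)).trans hεdef
  have e4 : ⁅S 4, S 0⁆ = ε := (mv 3 4 0 (by decide) (by decide) (by decide) (by decide) (by decide) (by decide)).trans e3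
  have e5 : ⁅S 5, S 0⁆ = ε := (mv 4 5 0 (by decide) (by decide) (by decide) (by decide) (by decide) (by decide)).trans e4
  have e6 : ⁅S 6, S 0⁆ = ε := (mv 5 6 0 (by decide) (by decide) (by decide) (by decide) (by decide) (by decide)).trans e5
  have e7 : ⁅S 7, S 0⁆ = ε := (mv 3 7 0 (by decide) (by decide) (by decide) (by decide) (by decide) (by decide)).trans e3
  have e8 : ⁅S 8, S 0⁆ = ε := (mv 7 8 0 (by decide) (by decide) (by decide) (by decide) (by decide) (by decide)).trans e7
  have hpass : ∀ x ∈ wpow wordC 9, S x * S 0 = S 0 * S x * ε := by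
    intro x hx
    have hk : ⁅S x, S 0⁆ = ε := by
      have hm : x ∈ wordC := by
        simp only [wpow, List.mem_flatten, List.mem_replicate] at hx
        obtain ⟨l, ⟨-, rfl⟩, hl⟩ := hx
        exact hl
      simp only [wordC, List.mem_cons, List.not_mem_nil, or_false] at hm
      rcases hm with rfl | rfl | rfl | rfl | rfl | rfl | rfl
      exacts [hεdef, e3, e4, e5, e6, e7, e8]
    rw [← (hεc (S 0 * S x)).eq, ← hk, commutatorElement_def]
    group
  have hε2 : ε * ε = 1 := by
    have h1 : ⁅S 2 * S 2, S 0⁆ = 1 := commutatorElement_eq_one_iff_mul_comm.2 (by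
      rw [hsq 2 (by decide)]; exact (hcc (S 0)).eq)
    rwa [show ⁅S 2 * S 2, S 0⁆ = S 2 * ⁅S 2, S 0⁆ * (S 2)⁻¹ * ⁅S 2, S 0⁆ by
      simp only [commutatorElement_def]; group, hεdef, ← (hεc (S 2)).eq, mul_inv_cancel_right] at h1
  have hε : ε = 1 := by
    set z := evW S (wpow wordC 9) with hzdef
    have hσz : σ z = 1 := by
      have h := ev_checked wordC_ok
      rw [evW] at h
      rw [hzdef, evW, map_list_prod, List.map_map]
      rw [List.map_congr_left (f := ⇑σ ∘ S) (g := ev) fun x hx => hσ x ?_]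
      · exact h
      · have e : ∀ y ∈ wpow wordC 9, y < 9 := by decide
        exact e x hx
    have h := pass_word hεc hpass
    rw [← hzdef, (CfsgLib.Schur.ker_commute hc hσz (S 0)).eq] at h
    have h1 : ε ^ (wpow wordC 9).length = 1 := mul_eq_left.1 h.symm
    rw [show (wpow wordC 9).length = 2 * 31 + 1 by decide, pow_succ, pow_mul, sq, hε2, one_pow,
      one_mul] at h1
    exact h1
  have sy : ∀ x y : ℕ, ⁅S x, S y⁆ = 1 → ⁅S y, S x⁆ = 1 := fun x y h => by
    rw [← commutatorElement_inv, h, inv_one]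
  have k2_0 : ⁅S 2, S 0⁆ = 1 := hεdef.trans hε
  have k3_0 : ⁅S 3, S 0⁆ = 1 := e3.trans hε
  have k4_0 : ⁅S 4, S 0⁆ = 1 := e4.trans hε
  have k5_0 : ⁅S 5, S 0⁆ = 1 := e5.trans hε
  have k6_0 : ⁅S 6, S 0⁆ = 1 := e6.trans hε
  have k7_0 : ⁅S 7, S 0⁆ = 1 := e7.trans hε
  have k8_0 : ⁅S 8, S 0⁆ = 1 := e8.trans hε
  have k1_3 : ⁅S 1, S 3⁆ = 1 := (mv 0 1 3 (by decide) (by decide) (by decide) (by decide) (by decide) (by decide)).trans (sy _ _ k3_0)
  have k1_4 : ⁅S 1, S 4⁆ = 1 := (mv 0 1 4 (by decide) (by decide) (by decide) (by decide) (by decide) (by decide)).trans (sy _ _ k4_0)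
  have k1_5 : ⁅S 1, S 5⁆ = 1 := (mv 0 1 5 (by decide) (by decide) (by decide) (by decide) (by decide) (by decide)).trans (sy _ _ k5_0)
  have k1_6 : ⁅S 1, S 6⁆ = 1 := (mv 0 1 6 (by decide) (by decide) (by decide) (by decide) (by decide) (by decide)).trans (sy _ _ k6_0)
  have k1_7 : ⁅S 1, S 7⁆ = 1 := (mv 0 1 7 (by decide) (by decide) (by decide) (by decide) (by decide) (by decide)).trans (sy _ _ k7_0)
  have k1_8 : ⁅S 1, S 8⁆ = 1 := (mv 0 1 8 (by decide) (by decide) (by decide) (by decide) (by decide) (by decide)).trans (sy _ _ k8_0)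
  have k2_4 : ⁅S 2, S 4⁆ = 1 := (mv 1 2 4 (by decide) (by decide) (by decide) (by decide) (by decide) (by decide)).trans k1_4
  have k2_5 : ⁅S 2, S 5⁆ = 1 := (mv 1 2 5 (by decide) (by decide) (by decide) (by decide) (by decide) (by decide)).trans k1_5
  have k2_6 : ⁅S 2, S 6⁆ = 1 := (mv 1 2 6 (by decide) (by decide) (by decide) (by decide) (by decide) (by decide)).trans k1_6
  have k2_7 : ⁅S 2, S 7⁆ = 1 := (mv 1 2 7 (by decide) (by decide) (by decide) (by decide) (by decide) (by decide)).trans k1_7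
  have k2_8 : ⁅S 2, S 8⁆ = 1 := (mv 1 2 8 (by decide) (by decide) (by decide) (by decide) (by decide) (by decide)).trans k1_8
  have k3_5 : ⁅S 3, S 5⁆ = 1 := (mv 2 3 5 (by decide) (by decide) (by decide) (by decide) (by decide) (by decide)).trans k2_5
  have k3_6 : ⁅S 3, S 6⁆ = 1 := (mv 2 3 6 (by decide) (by decide) (by decide) (by decide) (by decide) (by decide)).trans k2_6
  have k3_8 : ⁅S 3, S 8⁆ = 1 := (mv 2 3 8 (by decide) (by decide) (by decide) (by decide) (by decide) (by decide)).trans k2_8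
  have k4_6 : ⁅S 4, S 6⁆ = 1 := (mv 3 4 6 (by decide) (by decide) (by decide) (by decide) (by decide) (by decide)).trans k3_6
  have k4_8 : ⁅S 4, S 8⁆ = 1 := (mv 3 4 8 (by decide) (by decide) (by decide) (by decide) (by decide) (by decide)).trans k3_8
  have k7_5 : ⁅S 7, S 5⁆ = 1 := (mv 3 7 5 (by decide) (by decide) (by decide) (by decide) (by decide) (by decide)).trans k3_5
  have k7_6 : ⁅S 7, S 6⁆ = 1 := (mv 3 7 6 (by decide) (by decide) (by decide) (by decide) (by decide) (by decide)).trans k3_6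
  have k4_7 : ⁅S 4, S 7⁆ = 1 := (mv 5 4 7 (by decide) (by decide) (by decide) (by decide) (by decide) (by decide)).trans (sy _ _ k7_5)
  have k5_8 : ⁅S 5, S 8⁆ = 1 := (mv 4 5 8 (by decide) (by decide) (by decide) (by decide) (by decide) (by decide)).trans k4_8
  have k6_8 : ⁅S 6, S 8⁆ = 1 := (mv 5 6 8 (by decide) (by decide) (by decide) (by decide) (by decide) (by decide)).trans k5_8
  have hcomm : ∀ x < 9, ∀ y < 9, x ≠ y → adjB edges x y = false → S x * S y = S y * S x := by
    intro x hx y hy hne ha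
    refine commutatorElement_eq_one_iff_mul_comm.1 ?_
    interval_cases x <;> interval_cases y <;>
      first | (exact absurd rfl hne) | (exact absurd ha (by decide)) | assumption | (apply sy; assumption)
  refine ⟨S, c, hσ, hσc, ⟨fun x hx => ?_, hcc, fun x hx y hy hne ha => ?_, fun x hx y hy ha => ?_⟩⟩
  · rcases Nat.lt_succ_iff_lt_or_eq.1 hx with h | rfl
    · exact hsq x h
    · rw [h98]; exact hsq 8 (by decide)
  · rcases Nat.lt_succ_iff_lt_or_eq.1 hx with h | rfl <;> rcases Nat.lt_succ_iff_lt_or_eq.1 hy with h' | rfl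
    · exact hcomm x h y h' hne ha
    · rw [h98]
      by_cases e : x = 8
      · rw [e]
      · exact hcomm x h 8 (by decide) e (by interval_cases x <;> first | decide | (exact absurd ha (by decide)))
    · rw [h98]
      by_cases e : 8 = y
      · rw [e]
      · exact hcomm 8 (by decide) y h' e (by interval_cases y <;> first | decide | (exact absurd ha (by decide)))
    · exact absurd rfl hne
  · rcases Nat.lt_succ_iff_lt_or_eq.1 hx with h | rfl <;> rcases Nat.lt_succ_iff_lt_or_eq.1 hy with h' | rfl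
    · exact hbr x h y h' ha
    · rw [h98]
      exact hbr x h 8 (by decide) (by interval_cases x <;> first | decide | (exact absurd ha (by decide)))
    · rw [h98]
      exact hbr 8 (by decide) y h' (by interval_cases y <;> first | decide | (exact absurd ha (by decide)))
    · exact absurd ha (by decide)

end CfsgLib.Fi22Mult
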