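import Cfsg.Agent.Lib.Presented.Tree

/-! Generated: a 27-dimensional representation over four elements of the triple cover of the presented Fischer
group on 22 letters, written over two elements as sparse rows; the last matrix is the scalar of order three. -/
set_option autoImplicit false
set_option maxRecDepth 8000

namespace CfsgLib.Fi22Mult.Rows

open CfsgLib.Presented

/-- row numbering -/
def idx : ATree ℕ := (.node (.node (.node (.node (.node (.node (.leaf 0) (.leaf 32)) (.node (.leaf 16) (.leaf 48))) (.node (.node (.leaf 8) (.leaf 40)) (.node (.leaf 24) (.leaf 0)))) (.node (.node (.node (.leaf 4) (.leaf 36)) (.node (.leaf 20) (.leaf 52))) (.node (.node (.leaf 12) (.leaf 44)) (.node (.leaf 28) (.leaf 0))))) (.node (.node (.node (.node (.leaf 2) (.leaf 34)) (.node (.leaf 18) (.leaf 50))) (.node (.node (.leaf 10) (.leaf 42)) (.node (.leaf 26) (.leaf 0)))) (.node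 (.node (.node (.leaf 6) (.leaf 38)) (.node (.leaf 22) (.leaf 0))) (.node (.node (.leaf 14) (.leaf 46)) (.node (.leaf 30) (.leaf 0)))))) (.node (.node (.node (.node (.node (.leaf 1) (.leaf 33)) (.node (.leaf 17) (.leaf 49))) (.node (.node (.leaf 9) (.leaf 41)) (.node (.leaf 25) (.leaf 0)))) (.node (.node (.node (.leaf 5) (.leaf 37)) (.node (.leaf 21) (.leaf 53))) (.node (.node (.leaf 13) (.leaf 45)) (.node (.leaf 29) (.leaf 0))))) (.node (.node (.node (.node (.leaf 3) (.leaf 35)) (.node (.leaf 19) (.leaf 51))) (.node (.node (.leaf 11) (.leaf 43)) (.node (.leaf 27) (.leaf 0)))) (.node (.node (.node (.leaf 7) (.leaf 39)) (.node (.leaf 23) (.leaf 0))) (.node (.node (.leaf 15) (.leaf 47)) (.node (.leaf 31) (.leaf 0)))))))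

/-- the matrix of letter 0 -/
def m0 : ATree (List (ℕ × ℕ)) :=
  (.node (.node (.node (.node (.node (.node (.leaf
  [(0,1),(2,1),(4,1),(6,1),(8,1),(11,1),(12,1),(14,1),(17,1),(18,1),(21,1),(22,1),(25,1),(31,1),(33,1),(37,1),(43,1)])
  (.leaf
  [(0,1),(1,1),(4,1),(5,1),(8,1),(9,1),(10,1),(14,1),(15,1),(16,1),(22,1),(23,1),(24,1),(30,1),(32,1),(34,1),(36,1),(40,1),(42,1),(46,1),(50,1),(53,1)]))
  (.node (.leaf
  [(0,1),(1,1),(2,1),(3,1),(4,1),(5,1),(10,1),(12,1),(13,1),(14,1),(15,1),(16,1),(20,1),(24,1),(28,1),(30,1),(32,1),(34,1),(42,1),(44,1),(46,1),(53,1)])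
  (.leaf
  [(6,1),(7,1),(12,1),(13,1),(18,1),(19,1),(20,1),(22,1),(23,1),(24,1),(26,1),(27,1),(28,1),(36,1),(38,1),(40,1),(42,1),(44,1),(46,1),(48,1),(50,1),(53,1)])))
  (.node (.node (.leaf
  [(0,1),(2,1),(4,1),(6,1),(8,1),(11,1),(14,1),(18,1),(22,1),(26,1),(31,1),(33,1),(35,1),(37,1),(39,1),(41,1),(51,1)])
  (.leaf
  [(4,1),(5,1),(6,1),(7,1),(8,1),(9,1),(10,1),(22,1),(23,1),(24,1),(26,1),(27,1),(28,1),(32,1),(34,1),(36,1),(38,1),(40,1),(46,1),(48,1),(50,1),(53,1)]))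
  (.node (.leaf
  [(0,1),(1,1),(4,1),(5,1),(6,1),(7,1),(10,1),(12,1),(13,1),(16,1),(20,1),(22,1),(23,1),(24,1),(28,1),(32,1),(36,1),(40,1),(42,1),(46,1),(48,1),(53,1)])
  (.leaf [])))) (.node (.node (.node (.leaf
  [(0,1),(2,1),(4,1),(6,1),(8,1),(11,1),(12,1),(14,1),(17,1),(22,1),(25,1),(26,1),(29,1),(33,1),(35,1),(41,1),(47,1)])
  (.leaf
  [(0,1),(1,1),(6,1),(7,1),(8,1),(9,1),(10,1),(18,1),(19,1),(20,1),(22,1),(23,1),(24,1),(30,1),(32,1),(36,1),(38,1),(40,1),(42,1),(48,1),(50,1),(53,1)]))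
  (.node (.leaf
  [(0,1),(1,1),(2,1),(3,1),(6,1),(7,1),(10,1),(12,1),(13,1),(16,1),(18,1),(19,1),(20,1),(24,1),(28,1),(30,1),(36,1),(38,1),(42,1),(44,1),(48,1),(53,1)])
  (.leaf
  [(10,1),(11,1),(16,1),(17,1),(20,1),(21,1),(24,1),(25,1),(28,1),(29,1),(30,1),(31,1),(32,1),(33,1),(34,1),(35,1),(36,1),(37,1),(38,1),(39,1),(40,1),(41,1),(42,1),(43,1),(44,1),(45,1),(46,1),(47,1),(48,1),(49,1),(50,1),(51,1),(52,1)])))
  (.node (.node (.leaf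
  [(0,1),(2,1),(4,1),(6,1),(12,1),(14,1),(17,1),(18,1),(21,1),(22,1),(25,1),(26,1),(29,1),(43,1),(45,1),(47,1),(49,1)])
  (.leaf
  [(2,1),(3,1),(12,1),(13,1),(14,1),(15,1),(16,1),(18,1),(19,1),(20,1),(26,1),(27,1),(28,1),(30,1),(34,1),(38,1),(42,1),(44,1),(46,1),(48,1),(50,1),(53,1)]))
  (.node (.leaf
  [(2,1),(3,1),(4,1),(5,1),(6,1),(7,1),(10,1),(12,1),(13,1),(16,1),(20,1),(24,1),(26,1),(27,1),(28,1),(34,1),(38,1),(40,1),(44,1),(46,1),(48,1),(53,1)])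
  (.leaf []))))) (.node (.node (.node (.node (.leaf
  [(0,1),(2,1),(4,1),(6,1),(8,1),(11,1),(12,1),(14,1),(17,1),(18,1),(21,1),(26,1),(29,1),(31,1),(35,1),(39,1),(45,1)])
  (.leaf
  [(2,1),(3,1),(4,1),(5,1),(8,1),(9,1),(10,1),(14,1),(15,1),(16,1),(26,1),(27,1),(28,1),(30,1),(32,1),(34,1),(38,1),(40,1),(44,1),(46,1),(50,1),(53,1)]))
  (.node (.leaf
  [(0,1),(2,1),(6,1),(8,1),(12,1),(14,1),(18,1),(21,1),(22,1),(26,1),(31,1),(37,1),(39,1),(43,1),(45,1),(49,1),(51,1)])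
  (.leaf
  [(8,1),(9,1),(14,1),(15,1),(18,1),(19,1),(22,1),(23,1),(26,1),(27,1),(30,1),(32,1),(34,1),(36,1),(38,1),(40,1),(42,1),(44,1),(46,1),(48,1),(50,1),(53,1)])))
  (.node (.node (.leaf
  [(0,1),(1,1),(2,1),(3,1),(4,1),(5,1),(6,1),(7,1),(8,1),(9,1),(10,1),(16,1),(20,1),(24,1),(28,1),(30,1),(32,1),(34,1),(36,1),(38,1),(40,1),(53,1)])
  (.leaf
  [(0,1),(1,1),(12,1),(13,1),(14,1),(15,1),(16,1),(18,1),(19,1),(20,1),(22,1),(23,1),(24,1),(30,1),(32,1),(36,1),(42,1),(44,1),(46,1),(48,1),(50,1),(53,1)]))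
  (.node (.leaf
  [(2,1),(4,1),(6,1),(8,1),(12,1),(14,1),(18,1),(22,1),(26,1),(29,1),(35,1),(39,1),(41,1),(45,1),(47,1),(49,1),(51,1)])
  (.leaf [])))) (.node (.node (.node (.leaf
  [(0,1),(2,1),(4,1),(6,1),(8,1),(11,1),(12,1),(18,1),(21,1),(22,1),(25,1),(26,1),(29,1),(37,1),(39,1),(41,1),(49,1)])
  (.leaf
  [(2,1),(3,1),(6,1),(7,1),(8,1),(9,1),(10,1),(18,1),(19,1),(20,1),(26,1),(27,1),(28,1),(30,1),(34,1),(36,1),(38,1),(40,1),(44,1),(48,1),(50,1),(53,1)]))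
  (.node (.leaf
  [(0,1),(4,1),(6,1),(8,1),(12,1),(14,1),(18,1),(22,1),(25,1),(26,1),(33,1),(37,1),(41,1),(43,1),(47,1),(49,1),(51,1)])
  (.leaf []))) (.node (.node (.leaf
  [(0,1),(2,1),(4,1),(8,1),(12,1),(14,1),(17,1),(18,1),(22,1),(26,1),(31,1),(33,1),(35,1),(43,1),(45,1),(47,1),(51,1)])
  (.leaf
  [(4,1),(5,1),(12,1),(13,1),(14,1),(15,1),(16,1),(22,1),(23,1),(24,1),(26,1),(27,1),(28,1),(32,1),(34,1),(40,1),(42,1),(44,1),(46,1),(48,1),(50,1),(53,1)]))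
  (.node (.leaf
  [(0,1),(1,1),(2,1),(3,1),(8,1),(9,1),(10,1),(14,1),(15,1),(16,1),(18,1),(19,1),(20,1),(30,1),(32,1),(34,1),(36,1),(38,1),(42,1),(44,1),(50,1),(53,1)])
  (.leaf [])))))) (.node (.node (.node (.node (.node (.leaf
  [(1,1),(3,1),(5,1),(7,1),(9,1),(10,1),(11,1),(13,1),(15,1),(16,1),(17,1),(19,1),(20,1),(21,1),(23,1),(24,1),(25,1),(30,1),(31,1),(32,1),(33,1),(36,1),(37,1),(42,1),(43,1)])
  (.leaf
  [(0,1),(4,1),(8,1),(11,1),(14,1),(17,1),(22,1),(25,1),(31,1),(33,1),(35,1),(37,1),(41,1),(43,1),(47,1),(51,1),(52,1),(53,1)]))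
  (.node (.leaf
  [(0,1),(2,1),(4,1),(11,1),(12,1),(14,1),(17,1),(21,1),(25,1),(29,1),(31,1),(33,1),(35,1),(43,1),(45,1),(47,1),(52,1),(53,1)])
  (.leaf
  [(6,1),(12,1),(18,1),(21,1),(22,1),(25,1),(26,1),(29,1),(37,1),(39,1),(41,1),(43,1),(45,1),(47,1),(49,1),(51,1),(52,1),(53,1)])))
  (.node (.node (.leaf
  [(1,1),(3,1),(5,1),(7,1),(9,1),(10,1),(11,1),(15,1),(19,1),(23,1),(27,1),(30,1),(31,1),(32,1),(33,1),(34,1),(35,1),(36,1),(37,1),(38,1),(39,1),(40,1),(41,1),(50,1),(51,1)])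
  (.leaf
  [(4,1),(6,1),(8,1),(11,1),(22,1),(25,1),(26,1),(29,1),(33,1),(35,1),(37,1),(39,1),(41,1),(47,1),(49,1),(51,1),(52,1),(53,1)]))
  (.node (.leaf
  [(0,1),(4,1),(6,1),(11,1),(12,1),(17,1),(21,1),(22,1),(25,1),(29,1),(33,1),(37,1),(41,1),(43,1),(47,1),(49,1),(52,1),(53,1)])
  (.leaf [])))) (.node (.node (.node (.leaf
  [(1,1),(3,1),(5,1),(7,1),(9,1),(10,1),(11,1),(13,1),(15,1),(16,1),(17,1),(23,1),(24,1),(25,1),(27,1),(28,1),(29,1),(32,1),(33,1),(34,1),(35,1),(40,1),(41,1),(46,1),(47,1)])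
  (.leaf
  [(0,1),(6,1),(8,1),(11,1),(18,1),(21,1),(22,1),(25,1),(31,1),(33,1),(37,1),(39,1),(41,1),(43,1),(49,1),(51,1),(52,1),(53,1)]))
  (.node (.leaf
  [(0,1),(2,1),(6,1),(11,1),(12,1),(17,1),(18,1),(21,1),(25,1),(29,1),(31,1),(37,1),(39,1),(43,1),(45,1),(49,1),(52,1),(53,1)])
  (.leaf
  [(10,1),(16,1),(20,1),(24,1),(28,1),(30,1),(32,1),(34,1),(36,1),(38,1),(40,1),(42,1),(44,1),(46,1),(48,1),(50,1),(53,1)])))
  (.node (.node (.leaf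
  [(1,1),(3,1),(5,1),(7,1),(13,1),(15,1),(16,1),(17,1),(19,1),(20,1),(21,1),(23,1),(24,1),(25,1),(27,1),(28,1),(29,1),(42,1),(43,1),(44,1),(45,1),(46,1),(47,1),(48,1),(49,1)])
  (.leaf
  [(2,1),(12,1),(14,1),(17,1),(18,1),(21,1),(26,1),(29,1),(31,1),(35,1),(39,1),(43,1),(45,1),(47,1),(49,1),(51,1),(52,1),(53,1)]))
  (.node (.leaf
  [(2,1),(4,1),(6,1),(11,1),(12,1),(17,1),(21,1),(25,1),(26,1),(29,1),(35,1),(39,1),(41,1),(45,1),(47,1),(49,1),(52,1),(53,1)])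
  (.leaf []))))) (.node (.node (.node (.node (.leaf
  [(1,1),(3,1),(5,1),(7,1),(9,1),(10,1),(11,1),(13,1),(15,1),(16,1),(17,1),(19,1),(20,1),(21,1),(27,1),(28,1),(29,1),(30,1),(31,1),(34,1),(35,1),(38,1),(39,1),(44,1),(45,1)])
  (.leaf
  [(2,1),(4,1),(8,1),(11,1),(14,1),(17,1),(26,1),(29,1),(31,1),(33,1),(35,1),(39,1),(41,1),(45,1),(47,1),(51,1),(52,1),(53,1)]))
  (.node (.leaf
  [(1,1),(3,1),(7,1),(9,1),(13,1),(15,1),(19,1),(20,1),(21,1),(23,1),(27,1),(30,1),(31,1),(36,1),(37,1),(38,1),(39,1),(42,1),(43,1),(44,1),(45,1),(48,1),(49,1),(50,1),(51,1)])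
  (.leaf
  [(8,1),(14,1),(18,1),(22,1),(26,1),(31,1),(33,1),(35,1),(37,1),(39,1),(41,1),(43,1),(45,1),(47,1),(49,1),(51,1),(52,1),(53,1)])))
  (.node (.node (.leaf
  [(0,1),(2,1),(4,1),(6,1),(8,1),(11,1),(17,1),(21,1),(25,1),(29,1),(31,1),(33,1),(35,1),(37,1),(39,1),(41,1),(52,1),(53,1)])
  (.leaf
  [(0,1),(12,1),(14,1),(17,1),(18,1),(21,1),(22,1),(25,1),(31,1),(33,1),(37,1),(43,1),(45,1),(47,1),(49,1),(51,1),(52,1),(53,1)]))
  (.node (.leaf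
  [(3,1),(5,1),(7,1),(9,1),(13,1),(15,1),(19,1),(23,1),(27,1),(28,1),(29,1),(34,1),(35,1),(38,1),(39,1),(40,1),(41,1),(44,1),(45,1),(46,1),(47,1),(48,1),(49,1),(50,1),(51,1)])
  (.leaf [])))) (.node (.node (.node (.leaf
  [(1,1),(3,1),(5,1),(7,1),(9,1),(10,1),(11,1),(13,1),(19,1),(20,1),(21,1),(23,1),(24,1),(25,1),(27,1),(28,1),(29,1),(36,1),(37,1),(38,1),(39,1),(40,1),(41,1),(48,1),(49,1)])
  (.leaf
  [(2,1),(6,1),(8,1),(11,1),(18,1),(21,1),(26,1),(29,1),(31,1),(35,1),(37,1),(39,1),(41,1),(45,1),(49,1),(51,1),(52,1),(53,1)]))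
  (.node (.leaf
  [(1,1),(5,1),(7,1),(9,1),(13,1),(15,1),(19,1),(23,1),(24,1),(25,1),(27,1),(32,1),(33,1),(36,1),(37,1),(40,1),(41,1),(42,1),(43,1),(46,1),(47,1),(48,1),(49,1),(50,1),(51,1)])
  (.leaf []))) (.node (.node (.leaf
  [(1,1),(3,1),(5,1),(9,1),(13,1),(15,1),(16,1),(17,1),(19,1),(23,1),(27,1),(30,1),(31,1),(32,1),(33,1),(34,1),(35,1),(42,1),(43,1),(44,1),(45,1),(46,1),(47,1),(50,1),(51,1)])
  (.leaf
  [(4,1),(12,1),(14,1),(17,1),(22,1),(25,1),(26,1),(29,1),(33,1),(35,1),(41,1),(43,1),(45,1),(47,1),(49,1),(51,1),(52,1),(53,1)]))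
  (.node (.leaf
  [(0,1),(2,1),(8,1),(11,1),(14,1),(17,1),(18,1),(21,1),(31,1),(33,1),(35,1),(37,1),(39,1),(43,1),(45,1),(51,1),(52,1),(53,1)])
  (.leaf [])))))))

/-- the matrix of letter 1 -/
def m1 : ATree (List (ℕ × ℕ)) :=
  (.node (.node (.node (.node (.node (.node (.leaf [(42,1)]) (.leaf [(32,1)])) (.node (.leaf [(16,1)]) (.leaf
  [(6,1)]))) (.node (.node (.leaf [(50,1)]) (.leaf [(40,1)])) (.node (.leaf [(24,1)]) (.leaf [])))) (.node (.node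
  (.node (.leaf [(46,1)]) (.leaf [(36,1)])) (.node (.leaf [(20,1)]) (.leaf [(10,1)]))) (.node (.node (.leaf
  [(12,1)]) (.leaf [(2,1)])) (.node (.leaf [(28,1)]) (.leaf []))))) (.node (.node (.node (.node (.leaf [(44,1)])
  (.leaf [(34,1)])) (.node (.leaf [(18,1)]) (.leaf [(8,1)]))) (.node (.node (.leaf [(52,1)]) (.leaf [(0,1)]))
  (.node (.leaf [(26,1)]) (.leaf [])))) (.node (.node (.node (.leaf [(48,1)]) (.leaf [(38,1)])) (.node (.leaf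
  [(22,1)]) (.leaf []))) (.node (.node (.leaf [(14,1)]) (.leaf [(4,1)])) (.node (.leaf [(30,1)]) (.leaf []))))))
  (.node (.node (.node (.node (.node (.leaf [(43,1)]) (.leaf [(33,1)])) (.node (.leaf [(17,1)]) (.leaf [(7,1)])))
  (.node (.node (.leaf [(51,1)]) (.leaf [(41,1)])) (.node (.leaf [(25,1)]) (.leaf [])))) (.node (.node (.node
  (.leaf [(47,1)]) (.leaf [(37,1)])) (.node (.leaf [(21,1)]) (.leaf [(11,1)]))) (.node (.node (.leaf [(13,1)])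
  (.leaf [(3,1)])) (.node (.leaf [(29,1)]) (.leaf []))))) (.node (.node (.node (.node (.leaf [(45,1)]) (.leaf
  [(35,1)])) (.node (.leaf [(19,1)]) (.leaf [(9,1)]))) (.node (.node (.leaf [(53,1)]) (.leaf [(1,1)])) (.node
  (.leaf [(27,1)]) (.leaf [])))) (.node (.node (.node (.leaf [(49,1)]) (.leaf [(39,1)])) (.node (.leaf [(23,1)])
  (.leaf []))) (.node (.node (.leaf [(15,1)]) (.leaf [(5,1)])) (.node (.leaf [(31,1)]) (.leaf [])))))))

/-- the matrix of letter 2 -/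
def m2 : ATree (List (ℕ × ℕ)) :=
  (.node (.node (.node (.node (.node (.node (.leaf [(0,1)]) (.leaf [(32,1)])) (.node (.leaf [(10,1)]) (.leaf
  [(48,1)]))) (.node (.node (.leaf [(14,1)]) (.leaf [(46,1)])) (.node (.leaf [(24,1)]) (.leaf [])))) (.node
  (.node (.node (.leaf [(4,1)]) (.leaf [(42,1)])) (.node (.leaf [(20,1)]) (.leaf [(52,1)]))) (.node (.node (.leaf
  [(6,1)]) (.leaf [(38,1)])) (.node (.leaf [(28,1)]) (.leaf []))))) (.node (.node (.node (.node (.leaf [(2,1)])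
  (.leaf [(34,1)])) (.node (.leaf [(18,1)]) (.leaf [(50,1)]))) (.node (.node (.leaf [(16,1)]) (.leaf [(36,1)]))
  (.node (.leaf [(26,1)]) (.leaf [])))) (.node (.node (.node (.leaf [(12,1)]) (.leaf [(44,1)])) (.node (.leaf
  [(22,1)]) (.leaf []))) (.node (.node (.leaf [(8,1)]) (.leaf [(40,1)])) (.node (.leaf [(30,1)]) (.leaf []))))))
  (.node (.node (.node (.node (.node (.leaf [(1,1)]) (.leaf [(33,1)])) (.node (.leaf [(11,1)]) (.leaf [(49,1)])))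
  (.node (.node (.leaf [(15,1)]) (.leaf [(47,1)])) (.node (.leaf [(25,1)]) (.leaf [])))) (.node (.node (.node
  (.leaf [(5,1)]) (.leaf [(43,1)])) (.node (.leaf [(21,1)]) (.leaf [(53,1)]))) (.node (.node (.leaf [(7,1)])
  (.leaf [(39,1)])) (.node (.leaf [(29,1)]) (.leaf []))))) (.node (.node (.node (.node (.leaf [(3,1)]) (.leaf
  [(35,1)])) (.node (.leaf [(19,1)]) (.leaf [(51,1)]))) (.node (.node (.leaf [(17,1)]) (.leaf [(37,1)])) (.node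
  (.leaf [(27,1)]) (.leaf [])))) (.node (.node (.node (.leaf [(13,1)]) (.leaf [(45,1)])) (.node (.leaf [(23,1)])
  (.leaf []))) (.node (.node (.leaf [(9,1)]) (.leaf [(41,1)])) (.node (.leaf [(31,1)]) (.leaf [])))))))

/-- the matrix of letter 3 -/
def m3 : ATree (List (ℕ × ℕ)) :=
  (.node (.node (.node (.node (.node (.node (.leaf [(0,1)]) (.leaf [(36,1)])) (.node (.leaf [(20,1)]) (.leaf
  [(46,1)]))) (.node (.node (.leaf [(8,1)]) (.leaf [(40,1)])) (.node (.leaf [(24,1)]) (.leaf [])))) (.node (.node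
  (.node (.leaf [(6,1)]) (.leaf [(32,1)])) (.node (.leaf [(16,1)]) (.leaf [(52,1)]))) (.node (.node (.leaf
  [(12,1)]) (.leaf [(44,1)])) (.node (.leaf [(28,1)]) (.leaf []))))) (.node (.node (.node (.node (.leaf [(2,1)])
  (.leaf [(38,1)])) (.node (.leaf [(14,1)]) (.leaf [(50,1)]))) (.node (.node (.leaf [(10,1)]) (.leaf [(42,1)]))
  (.node (.leaf [(26,1)]) (.leaf [])))) (.node (.node (.node (.leaf [(4,1)]) (.leaf [(34,1)])) (.node (.leaf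
  [(22,1)]) (.leaf []))) (.node (.node (.leaf [(18,1)]) (.leaf [(48,1)])) (.node (.leaf [(30,1)]) (.leaf []))))))
  (.node (.node (.node (.node (.node (.leaf [(1,1)]) (.leaf [(37,1)])) (.node (.leaf [(21,1)]) (.leaf [(47,1)])))
  (.node (.node (.leaf [(9,1)]) (.leaf [(41,1)])) (.node (.leaf [(25,1)]) (.leaf [])))) (.node (.node (.node
  (.leaf [(7,1)]) (.leaf [(33,1)])) (.node (.leaf [(17,1)]) (.leaf [(53,1)]))) (.node (.node (.leaf [(13,1)])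
  (.leaf [(45,1)])) (.node (.leaf [(29,1)]) (.leaf []))))) (.node (.node (.node (.node (.leaf [(3,1)]) (.leaf
  [(39,1)])) (.node (.leaf [(15,1)]) (.leaf [(51,1)]))) (.node (.node (.leaf [(11,1)]) (.leaf [(43,1)])) (.node
  (.leaf [(27,1)]) (.leaf [])))) (.node (.node (.node (.leaf [(5,1)]) (.leaf [(35,1)])) (.node (.leaf [(23,1)])
  (.leaf []))) (.node (.node (.leaf [(19,1)]) (.leaf [(49,1)])) (.node (.leaf [(31,1)]) (.leaf [])))))))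

/-- the matrix of letter 4 -/
def m4 : ATree (List (ℕ × ℕ)) :=
  (.node (.node (.node (.node (.node (.node (.leaf [(0,1)]) (.leaf [(30,1)])) (.node (.leaf [(16,1)]) (.leaf
  [(48,1)]))) (.node (.node (.leaf [(8,1)]) (.leaf [(38,1)])) (.node (.leaf [(20,1)]) (.leaf [])))) (.node (.node
  (.node (.leaf [(2,1)]) (.leaf [(36,1)])) (.node (.leaf [(24,1)]) (.leaf [(52,1)]))) (.node (.node (.leaf
  [(12,1)]) (.leaf [(46,1)])) (.node (.leaf [(28,1)]) (.leaf []))))) (.node (.node (.node (.node (.leaf [(4,1)])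
  (.leaf [(34,1)])) (.node (.leaf [(22,1)]) (.leaf [(50,1)]))) (.node (.node (.leaf [(10,1)]) (.leaf [(42,1)]))
  (.node (.leaf [(26,1)]) (.leaf [])))) (.node (.node (.node (.leaf [(6,1)]) (.leaf [(40,1)])) (.node (.leaf
  [(18,1)]) (.leaf []))) (.node (.node (.leaf [(14,1)]) (.leaf [(44,1)])) (.node (.leaf [(32,1)]) (.leaf []))))))
  (.node (.node (.node (.node (.node (.leaf [(1,1)]) (.leaf [(31,1)])) (.node (.leaf [(17,1)]) (.leaf [(49,1)])))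
  (.node (.node (.leaf [(9,1)]) (.leaf [(39,1)])) (.node (.leaf [(21,1)]) (.leaf [])))) (.node (.node (.node
  (.leaf [(3,1)]) (.leaf [(37,1)])) (.node (.leaf [(25,1)]) (.leaf [(53,1)]))) (.node (.node (.leaf [(13,1)])
  (.leaf [(47,1)])) (.node (.leaf [(29,1)]) (.leaf []))))) (.node (.node (.node (.node (.leaf [(5,1)]) (.leaf
  [(35,1)])) (.node (.leaf [(23,1)]) (.leaf [(51,1)]))) (.node (.node (.leaf [(11,1)]) (.leaf [(43,1)])) (.node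
  (.leaf [(27,1)]) (.leaf [])))) (.node (.node (.node (.leaf [(7,1)]) (.leaf [(41,1)])) (.node (.leaf [(19,1)])
  (.leaf []))) (.node (.node (.leaf [(15,1)]) (.leaf [(45,1)])) (.node (.leaf [(33,1)]) (.leaf [])))))))

/-- the matrix of letter 5 -/
def m5 : ATree (List (ℕ × ℕ)) :=
  (.node (.node (.node (.node (.node (.node (.leaf [(2,1)]) (.leaf [(34,1)])) (.node (.leaf [(16,1)]) (.leaf
  [(48,1)]))) (.node (.node (.leaf [(8,1)]) (.leaf [(40,1)])) (.node (.leaf [(28,1)]) (.leaf [])))) (.node (.node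
  (.node (.leaf [(4,1)]) (.leaf [(38,1)])) (.node (.leaf [(20,1)]) (.leaf [(52,1)]))) (.node (.node (.leaf
  [(12,1)]) (.leaf [(42,1)])) (.node (.leaf [(24,1)]) (.leaf []))))) (.node (.node (.node (.node (.leaf [(0,1)])
  (.leaf [(32,1)])) (.node (.leaf [(18,1)]) (.leaf [(50,1)]))) (.node (.node (.leaf [(10,1)]) (.leaf [(44,1)]))
  (.node (.leaf [(22,1)]) (.leaf [])))) (.node (.node (.node (.leaf [(6,1)]) (.leaf [(36,1)])) (.node (.leaf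
  [(26,1)]) (.leaf []))) (.node (.node (.leaf [(14,1)]) (.leaf [(46,1)])) (.node (.leaf [(30,1)]) (.leaf []))))))
  (.node (.node (.node (.node (.node (.leaf [(3,1)]) (.leaf [(35,1)])) (.node (.leaf [(17,1)]) (.leaf [(49,1)])))
  (.node (.node (.leaf [(9,1)]) (.leaf [(41,1)])) (.node (.leaf [(29,1)]) (.leaf [])))) (.node (.node (.node
  (.leaf [(5,1)]) (.leaf [(39,1)])) (.node (.leaf [(21,1)]) (.leaf [(53,1)]))) (.node (.node (.leaf [(13,1)])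
  (.leaf [(43,1)])) (.node (.leaf [(25,1)]) (.leaf []))))) (.node (.node (.node (.node (.leaf [(1,1)]) (.leaf
  [(33,1)])) (.node (.leaf [(19,1)]) (.leaf [(51,1)]))) (.node (.node (.leaf [(11,1)]) (.leaf [(45,1)])) (.node
  (.leaf [(23,1)]) (.leaf [])))) (.node (.node (.node (.leaf [(7,1)]) (.leaf [(37,1)])) (.node (.leaf [(27,1)])
  (.leaf []))) (.node (.node (.leaf [(15,1)]) (.leaf [(47,1)])) (.node (.leaf [(31,1)]) (.leaf [])))))))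

/-- the matrix of letter 6 -/
def m6 : ATree (List (ℕ × ℕ)) :=
  (.node (.node (.node (.node (.node (.node (.leaf
  [(0,1),(2,1),(3,1),(4,1),(5,1),(6,1),(7,1),(8,1),(9,1),(10,1),(12,1),(13,1),(14,1),(15,1),(16,1),(18,1),(19,1),(20,1),(22,1),(23,1),(24,1),(30,1),(32,1),(36,1),(42,1)])
  (.leaf
  [(0,1),(4,1),(5,1),(8,1),(9,1),(10,1),(14,1),(15,1),(16,1),(22,1),(23,1),(24,1),(30,1),(32,1),(34,1),(35,1),(36,1),(40,1),(41,1),(42,1),(46,1),(47,1),(50,1),(51,1),(52,1)]))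
  (.node (.leaf
  [(0,1),(2,1),(3,1),(4,1),(5,1),(10,1),(12,1),(13,1),(14,1),(15,1),(16,1),(20,1),(24,1),(28,1),(29,1),(30,1),(32,1),(34,1),(35,1),(42,1),(44,1),(45,1),(46,1),(47,1),(52,1)])
  (.leaf
  [(6,1),(12,1),(18,1),(21,1),(22,1),(25,1),(26,1),(27,1),(28,1),(37,1),(38,1),(40,1),(43,1),(44,1),(46,1),(48,1),(50,1),(53,1)])))
  (.node (.node (.leaf
  [(1,1),(2,1),(4,1),(6,1),(8,1),(11,1),(14,1),(18,1),(22,1),(26,1),(27,1),(31,1),(33,1),(34,1),(37,1),(38,1),(40,1),(50,1)])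
  (.leaf
  [(4,1),(6,1),(8,1),(11,1),(22,1),(25,1),(26,1),(27,1),(28,1),(33,1),(34,1),(37,1),(38,1),(40,1),(46,1),(48,1),(50,1),(53,1)]))
  (.node (.leaf
  [(0,1),(4,1),(5,1),(6,1),(7,1),(10,1),(12,1),(13,1),(16,1),(20,1),(22,1),(23,1),(24,1),(28,1),(29,1),(32,1),(36,1),(40,1),(41,1),(42,1),(46,1),(47,1),(48,1),(49,1),(52,1)])
  (.leaf [])))) (.node (.node (.node (.leaf
  [(1,1),(2,1),(4,1),(6,1),(8,1),(11,1),(12,1),(14,1),(17,1),(22,1),(25,1),(26,1),(27,1),(28,1),(33,1),(34,1),(40,1),(46,1)])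
  (.leaf
  [(0,1),(6,1),(7,1),(8,1),(9,1),(10,1),(18,1),(19,1),(20,1),(22,1),(23,1),(24,1),(30,1),(32,1),(36,1),(38,1),(39,1),(40,1),(41,1),(42,1),(48,1),(49,1),(50,1),(51,1),(52,1)]))
  (.node (.leaf
  [(0,1),(2,1),(3,1),(6,1),(7,1),(10,1),(12,1),(13,1),(16,1),(18,1),(19,1),(20,1),(24,1),(28,1),(29,1),(30,1),(36,1),(38,1),(39,1),(42,1),(44,1),(45,1),(48,1),(49,1),(52,1)])
  (.leaf
  [(10,1),(16,1),(20,1),(24,1),(28,1),(29,1),(30,1),(32,1),(34,1),(35,1),(36,1),(38,1),(39,1),(40,1),(41,1),(42,1),(44,1),(45,1),(46,1),(47,1),(48,1),(49,1),(50,1),(51,1),(52,1)])))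
  (.node (.node (.leaf
  [(1,1),(2,1),(4,1),(6,1),(12,1),(14,1),(17,1),(18,1),(21,1),(22,1),(25,1),(26,1),(27,1),(28,1),(43,1),(44,1),(46,1),(48,1)])
  (.leaf
  [(2,1),(12,1),(14,1),(17,1),(18,1),(21,1),(26,1),(27,1),(28,1),(31,1),(34,1),(38,1),(43,1),(44,1),(46,1),(48,1),(50,1),(53,1)]))
  (.node (.leaf
  [(2,1),(4,1),(6,1),(11,1),(12,1),(17,1),(21,1),(25,1),(26,1),(27,1),(28,1),(34,1),(38,1),(40,1),(44,1),(46,1),(48,1),(53,1)])
  (.leaf []))))) (.node (.node (.node (.node (.leaf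
  [(1,1),(2,1),(4,1),(6,1),(8,1),(11,1),(12,1),(14,1),(17,1),(18,1),(21,1),(26,1),(27,1),(28,1),(31,1),(34,1),(38,1),(44,1)])
  (.leaf
  [(2,1),(4,1),(8,1),(11,1),(14,1),(17,1),(26,1),(27,1),(28,1),(31,1),(33,1),(34,1),(38,1),(40,1),(44,1),(46,1),(50,1),(53,1)]))
  (.node (.leaf
  [(1,1),(2,1),(6,1),(8,1),(12,1),(14,1),(18,1),(21,1),(22,1),(26,1),(27,1),(31,1),(37,1),(38,1),(43,1),(44,1),(48,1),(50,1)])
  (.leaf
  [(8,1),(14,1),(18,1),(22,1),(26,1),(27,1),(31,1),(33,1),(34,1),(37,1),(38,1),(40,1),(43,1),(44,1),(46,1),(48,1),(50,1),(53,1)])))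
  (.node (.node (.leaf
  [(0,1),(2,1),(3,1),(4,1),(5,1),(6,1),(7,1),(8,1),(9,1),(10,1),(16,1),(20,1),(24,1),(28,1),(29,1),(30,1),(32,1),(34,1),(35,1),(36,1),(38,1),(39,1),(40,1),(41,1),(52,1)])
  (.leaf
  [(0,1),(12,1),(13,1),(14,1),(15,1),(16,1),(18,1),(19,1),(20,1),(22,1),(23,1),(24,1),(30,1),(32,1),(36,1),(42,1),(44,1),(45,1),(46,1),(47,1),(48,1),(49,1),(50,1),(51,1),(52,1)]))
  (.node (.leaf
  [(3,1),(5,1),(7,1),(9,1),(13,1),(15,1),(19,1),(23,1),(26,1),(29,1),(35,1),(39,1),(41,1),(45,1),(47,1),(49,1),(51,1)])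
  (.leaf [])))) (.node (.node (.node (.leaf
  [(1,1),(2,1),(4,1),(6,1),(8,1),(11,1),(12,1),(18,1),(21,1),(22,1),(25,1),(26,1),(27,1),(28,1),(37,1),(38,1),(40,1),(48,1)])
  (.leaf
  [(2,1),(6,1),(8,1),(11,1),(18,1),(21,1),(26,1),(27,1),(28,1),(31,1),(34,1),(37,1),(38,1),(40,1),(44,1),(48,1),(50,1),(53,1)]))
  (.node (.leaf
  [(1,1),(4,1),(6,1),(8,1),(12,1),(14,1),(18,1),(22,1),(25,1),(26,1),(27,1),(33,1),(37,1),(40,1),(43,1),(46,1),(48,1),(50,1)])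
  (.leaf []))) (.node (.node (.leaf
  [(1,1),(2,1),(4,1),(8,1),(12,1),(14,1),(17,1),(18,1),(22,1),(26,1),(27,1),(31,1),(33,1),(34,1),(43,1),(44,1),(46,1),(50,1)])
  (.leaf
  [(4,1),(12,1),(14,1),(17,1),(22,1),(25,1),(26,1),(27,1),(28,1),(33,1),(34,1),(40,1),(43,1),(44,1),(46,1),(48,1),(50,1),(53,1)]))
  (.node (.leaf
  [(0,1),(2,1),(3,1),(8,1),(9,1),(10,1),(14,1),(15,1),(16,1),(18,1),(19,1),(20,1),(30,1),(32,1),(34,1),(35,1),(36,1),(38,1),(39,1),(42,1),(44,1),(45,1),(50,1),(51,1),(52,1)])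
  (.leaf [])))))) (.node (.node (.node (.node (.node (.leaf
  [(1,1),(2,1),(4,1),(6,1),(8,1),(11,1),(12,1),(14,1),(17,1),(18,1),(21,1),(22,1),(25,1),(31,1),(33,1),(37,1),(43,1)])
  (.leaf
  [(1,1),(4,1),(8,1),(11,1),(14,1),(17,1),(22,1),(25,1),(31,1),(33,1),(34,1),(37,1),(40,1),(43,1),(46,1),(50,1),(53,1)]))
  (.node (.leaf
  [(1,1),(2,1),(4,1),(11,1),(12,1),(14,1),(17,1),(21,1),(25,1),(28,1),(31,1),(33,1),(34,1),(43,1),(44,1),(46,1),(53,1)])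
  (.leaf
  [(7,1),(13,1),(19,1),(20,1),(21,1),(23,1),(24,1),(25,1),(26,1),(29,1),(36,1),(37,1),(39,1),(41,1),(42,1),(43,1),(45,1),(47,1),(49,1),(51,1),(52,1),(53,1)])))
  (.node (.node (.leaf
  [(0,1),(1,1),(3,1),(5,1),(7,1),(9,1),(10,1),(11,1),(15,1),(19,1),(23,1),(26,1),(30,1),(31,1),(32,1),(33,1),(35,1),(36,1),(37,1),(39,1),(41,1),(51,1)])
  (.leaf
  [(5,1),(7,1),(9,1),(10,1),(11,1),(23,1),(24,1),(25,1),(26,1),(29,1),(32,1),(33,1),(35,1),(36,1),(37,1),(39,1),(41,1),(47,1),(49,1),(51,1),(52,1),(53,1)]))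
  (.node (.leaf
  [(1,1),(4,1),(6,1),(11,1),(12,1),(17,1),(21,1),(22,1),(25,1),(28,1),(33,1),(37,1),(40,1),(43,1),(46,1),(48,1),(53,1)])
  (.leaf [])))) (.node (.node (.node (.leaf
  [(0,1),(1,1),(3,1),(5,1),(7,1),(9,1),(10,1),(11,1),(13,1),(15,1),(16,1),(17,1),(23,1),(24,1),(25,1),(26,1),(29,1),(32,1),(33,1),(35,1),(41,1),(47,1)])
  (.leaf
  [(1,1),(6,1),(8,1),(11,1),(18,1),(21,1),(22,1),(25,1),(31,1),(33,1),(37,1),(38,1),(40,1),(43,1),(48,1),(50,1),(53,1)]))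
  (.node (.leaf
  [(1,1),(2,1),(6,1),(11,1),(12,1),(17,1),(18,1),(21,1),(25,1),(28,1),(31,1),(37,1),(38,1),(43,1),(44,1),(48,1),(53,1)])
  (.leaf
  [(11,1),(17,1),(21,1),(25,1),(28,1),(31,1),(33,1),(34,1),(37,1),(38,1),(40,1),(43,1),(44,1),(46,1),(48,1),(50,1),(53,1)])))
  (.node (.node (.leaf
  [(0,1),(1,1),(3,1),(5,1),(7,1),(13,1),(15,1),(16,1),(17,1),(19,1),(20,1),(21,1),(23,1),(24,1),(25,1),(26,1),(29,1),(42,1),(43,1),(45,1),(47,1),(49,1)])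
  (.leaf
  [(3,1),(13,1),(15,1),(16,1),(17,1),(19,1),(20,1),(21,1),(26,1),(29,1),(30,1),(31,1),(35,1),(39,1),(42,1),(43,1),(45,1),(47,1),(49,1),(51,1),(52,1),(53,1)]))
  (.node (.leaf
  [(3,1),(5,1),(7,1),(10,1),(11,1),(13,1),(16,1),(17,1),(20,1),(21,1),(24,1),(25,1),(26,1),(29,1),(35,1),(39,1),(41,1),(45,1),(47,1),(49,1),(52,1),(53,1)])
  (.leaf []))))) (.node (.node (.node (.node (.leaf
  [(0,1),(1,1),(3,1),(5,1),(7,1),(9,1),(10,1),(11,1),(13,1),(15,1),(16,1),(17,1),(19,1),(20,1),(21,1),(26,1),(29,1),(30,1),(31,1),(35,1),(39,1),(45,1)])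
  (.leaf
  [(3,1),(5,1),(9,1),(10,1),(11,1),(15,1),(16,1),(17,1),(26,1),(29,1),(30,1),(31,1),(32,1),(33,1),(35,1),(39,1),(41,1),(45,1),(47,1),(51,1),(52,1),(53,1)]))
  (.node (.leaf
  [(0,1),(1,1),(3,1),(7,1),(9,1),(13,1),(15,1),(19,1),(20,1),(21,1),(23,1),(26,1),(30,1),(31,1),(36,1),(37,1),(39,1),(42,1),(43,1),(45,1),(49,1),(51,1)])
  (.leaf
  [(9,1),(15,1),(19,1),(23,1),(26,1),(30,1),(31,1),(32,1),(33,1),(35,1),(36,1),(37,1),(39,1),(41,1),(42,1),(43,1),(45,1),(47,1),(49,1),(51,1),(52,1),(53,1)])))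
  (.node (.node (.leaf
  [(1,1),(2,1),(4,1),(6,1),(8,1),(11,1),(17,1),(21,1),(25,1),(28,1),(31,1),(33,1),(34,1),(37,1),(38,1),(40,1),(53,1)])
  (.leaf
  [(1,1),(12,1),(14,1),(17,1),(18,1),(21,1),(22,1),(25,1),(31,1),(33,1),(37,1),(43,1),(44,1),(46,1),(48,1),(50,1),(53,1)]))
  (.node (.leaf
  [(2,1),(3,1),(4,1),(5,1),(6,1),(7,1),(8,1),(9,1),(12,1),(13,1),(14,1),(15,1),(18,1),(19,1),(22,1),(23,1),(27,1),(28,1),(29,1),(34,1),(35,1),(38,1),(39,1),(40,1),(41,1),(44,1),(45,1),(46,1),(47,1),(48,1),(49,1),(50,1),(51,1)])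
  (.leaf [])))) (.node (.node (.node (.leaf
  [(0,1),(1,1),(3,1),(5,1),(7,1),(9,1),(10,1),(11,1),(13,1),(19,1),(20,1),(21,1),(23,1),(24,1),(25,1),(26,1),(29,1),(36,1),(37,1),(39,1),(41,1),(49,1)])
  (.leaf
  [(3,1),(7,1),(9,1),(10,1),(11,1),(19,1),(20,1),(21,1),(26,1),(29,1),(30,1),(31,1),(35,1),(36,1),(37,1),(39,1),(41,1),(45,1),(49,1),(51,1),(52,1),(53,1)]))
  (.node (.leaf
  [(0,1),(1,1),(5,1),(7,1),(9,1),(13,1),(15,1),(19,1),(23,1),(24,1),(25,1),(26,1),(32,1),(33,1),(36,1),(37,1),(41,1),(42,1),(43,1),(47,1),(49,1),(51,1)])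
  (.leaf []))) (.node (.node (.leaf
  [(0,1),(1,1),(3,1),(5,1),(9,1),(13,1),(15,1),(16,1),(17,1),(19,1),(23,1),(26,1),(30,1),(31,1),(32,1),(33,1),(35,1),(42,1),(43,1),(45,1),(47,1),(51,1)])
  (.leaf
  [(5,1),(13,1),(15,1),(16,1),(17,1),(23,1),(24,1),(25,1),(26,1),(29,1),(32,1),(33,1),(35,1),(41,1),(42,1),(43,1),(45,1),(47,1),(49,1),(51,1),(52,1),(53,1)]))
  (.node (.leaf
  [(1,1),(2,1),(8,1),(11,1),(14,1),(17,1),(18,1),(21,1),(31,1),(33,1),(34,1),(37,1),(38,1),(43,1),(44,1),(50,1),(53,1)])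
  (.leaf [])))))))

/-- the matrix of letter 7 -/
def m7 : ATree (List (ℕ × ℕ)) :=
  (.node (.node (.node (.node (.node (.node (.leaf [(0,1)]) (.leaf [(24,1)])) (.node (.leaf [(16,1)]) (.leaf
  [(50,1)]))) (.node (.node (.leaf [(6,1)]) (.leaf [(40,1)])) (.node (.leaf [(32,1)]) (.leaf [])))) (.node (.node
  (.node (.leaf [(4,1)]) (.leaf [(36,1)])) (.node (.leaf [(30,1)]) (.leaf [(52,1)]))) (.node (.node (.leaf
  [(14,1)]) (.leaf [(44,1)])) (.node (.leaf [(34,1)]) (.leaf []))))) (.node (.node (.node (.node (.leaf [(2,1)])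
  (.leaf [(28,1)])) (.node (.leaf [(18,1)]) (.leaf [(48,1)]))) (.node (.node (.leaf [(10,1)]) (.leaf [(42,1)]))
  (.node (.leaf [(26,1)]) (.leaf [])))) (.node (.node (.node (.leaf [(8,1)]) (.leaf [(38,1)])) (.node (.leaf
  [(22,1)]) (.leaf []))) (.node (.node (.leaf [(12,1)]) (.leaf [(46,1)])) (.node (.leaf [(20,1)]) (.leaf []))))))
  (.node (.node (.node (.node (.node (.leaf [(1,1)]) (.leaf [(25,1)])) (.node (.leaf [(17,1)]) (.leaf [(51,1)])))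
  (.node (.node (.leaf [(7,1)]) (.leaf [(41,1)])) (.node (.leaf [(33,1)]) (.leaf [])))) (.node (.node (.node
  (.leaf [(5,1)]) (.leaf [(37,1)])) (.node (.leaf [(31,1)]) (.leaf [(53,1)]))) (.node (.node (.leaf [(15,1)])
  (.leaf [(45,1)])) (.node (.leaf [(35,1)]) (.leaf []))))) (.node (.node (.node (.node (.leaf [(3,1)]) (.leaf
  [(29,1)])) (.node (.leaf [(19,1)]) (.leaf [(49,1)]))) (.node (.node (.leaf [(11,1)]) (.leaf [(43,1)])) (.node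
  (.leaf [(27,1)]) (.leaf [])))) (.node (.node (.node (.leaf [(9,1)]) (.leaf [(39,1)])) (.node (.leaf [(23,1)])
  (.leaf []))) (.node (.node (.leaf [(13,1)]) (.leaf [(47,1)])) (.node (.leaf [(21,1)]) (.leaf [])))))))

/-- the matrix of letter 8 -/
def m8 : ATree (List (ℕ × ℕ)) :=
  (.node (.node (.node (.node (.node (.node (.leaf [(0,1)]) (.leaf [(32,1)])) (.node (.leaf [(14,1),(15,1)])
  (.leaf [(48,1)]))) (.node (.node (.leaf [(11,1)]) (.leaf [(40,1)])) (.node (.leaf [(22,1),(23,1)]) (.leaf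
  [])))) (.node (.node (.node (.leaf [(4,1)]) (.leaf [(36,1)])) (.node (.leaf [(18,1),(19,1)]) (.leaf
  [(50,1),(51,1)]))) (.node (.node (.leaf [(12,1)]) (.leaf [(44,1)])) (.node (.leaf [(26,1),(27,1)]) (.leaf
  []))))) (.node (.node (.node (.node (.leaf [(2,1)]) (.leaf [(34,1)])) (.node (.leaf [(21,1)]) (.leaf
  [(53,1)]))) (.node (.node (.leaf [(8,1),(9,1)]) (.leaf [(42,1)])) (.node (.leaf [(29,1)]) (.leaf [])))) (.node
  (.node (.node (.leaf [(6,1)]) (.leaf [(38,1)])) (.node (.leaf [(25,1)]) (.leaf []))) (.node (.node (.leaf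
  [(17,1)]) (.leaf [(46,1)])) (.node (.leaf [(30,1)]) (.leaf [])))))) (.node (.node (.node (.node (.node (.leaf
  [(1,1)]) (.leaf [(33,1)])) (.node (.leaf [(14,1)]) (.leaf [(49,1)]))) (.node (.node (.leaf [(10,1),(11,1)])
  (.leaf [(41,1)])) (.node (.leaf [(22,1)]) (.leaf [])))) (.node (.node (.node (.leaf [(5,1)]) (.leaf [(37,1)]))
  (.node (.leaf [(18,1)]) (.leaf [(50,1)]))) (.node (.node (.leaf [(13,1)]) (.leaf [(45,1)])) (.node (.leaf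
  [(26,1)]) (.leaf []))))) (.node (.node (.node (.node (.leaf [(3,1)]) (.leaf [(35,1)])) (.node (.leaf
  [(20,1),(21,1)]) (.leaf [(52,1),(53,1)]))) (.node (.node (.leaf [(8,1)]) (.leaf [(43,1)])) (.node (.leaf
  [(28,1),(29,1)]) (.leaf [])))) (.node (.node (.node (.leaf [(7,1)]) (.leaf [(39,1)])) (.node (.leaf
  [(24,1),(25,1)]) (.leaf []))) (.node (.node (.leaf [(16,1),(17,1)]) (.leaf [(47,1)])) (.node (.leaf [(31,1)])
  (.leaf [])))))))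

/-- the matrix of letter 9 -/
def m9 : ATree (List (ℕ × ℕ)) :=
  (.node (.node (.node (.node (.node (.node (.leaf [(1,1)]) (.leaf [(33,1)])) (.node (.leaf [(17,1)]) (.leaf
  [(49,1)]))) (.node (.node (.leaf [(9,1)]) (.leaf [(41,1)])) (.node (.leaf [(25,1)]) (.leaf [])))) (.node (.node
  (.node (.leaf [(5,1)]) (.leaf [(37,1)])) (.node (.leaf [(21,1)]) (.leaf [(53,1)]))) (.node (.node (.leaf
  [(13,1)]) (.leaf [(45,1)])) (.node (.leaf [(29,1)]) (.leaf []))))) (.node (.node (.node (.node (.leaf [(3,1)])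
  (.leaf [(35,1)])) (.node (.leaf [(19,1)]) (.leaf [(51,1)]))) (.node (.node (.leaf [(11,1)]) (.leaf [(43,1)]))
  (.node (.leaf [(27,1)]) (.leaf [])))) (.node (.node (.node (.leaf [(7,1)]) (.leaf [(39,1)])) (.node (.leaf
  [(23,1)]) (.leaf []))) (.node (.node (.leaf [(15,1)]) (.leaf [(47,1)])) (.node (.leaf [(31,1)]) (.leaf []))))))
  (.node (.node (.node (.node (.node (.leaf [(0,1),(1,1)]) (.leaf [(32,1),(33,1)])) (.node (.leaf
  [(16,1),(17,1)]) (.leaf [(48,1),(49,1)]))) (.node (.node (.leaf [(8,1),(9,1)]) (.leaf [(40,1),(41,1)])) (.node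
  (.leaf [(24,1),(25,1)]) (.leaf [])))) (.node (.node (.node (.leaf [(4,1),(5,1)]) (.leaf [(36,1),(37,1)]))
  (.node (.leaf [(20,1),(21,1)]) (.leaf [(52,1),(53,1)]))) (.node (.node (.leaf [(12,1),(13,1)]) (.leaf
  [(44,1),(45,1)])) (.node (.leaf [(28,1),(29,1)]) (.leaf []))))) (.node (.node (.node (.node (.leaf
  [(2,1),(3,1)]) (.leaf [(34,1),(35,1)])) (.node (.leaf [(18,1),(19,1)]) (.leaf [(50,1),(51,1)]))) (.node (.node
  (.leaf [(10,1),(11,1)]) (.leaf [(42,1),(43,1)])) (.node (.leaf [(26,1),(27,1)]) (.leaf [])))) (.node (.node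
  (.node (.leaf [(6,1),(7,1)]) (.leaf [(38,1),(39,1)])) (.node (.leaf [(22,1),(23,1)]) (.leaf []))) (.node (.node
  (.leaf [(14,1),(15,1)]) (.leaf [(46,1),(47,1)])) (.node (.leaf [(30,1),(31,1)]) (.leaf [])))))))

/-- all matrices -/
def gens : List (ATree (List (ℕ × ℕ))) := [m0, m1, m2, m3, m4, m5, m6, m7, m8, m9]

end CfsgLib.Fi22Mult.Rows
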