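import Cfsg.Agent.Lib.Presented.Cert.Fi22UCert
import Cfsg.Agent.Lib.Presented.MatCheck
import Cfsg.Agent.Lib.Presented.Fi22Mult.Rows
import Cfsg.Agent.Lib.Presented.Fi22Mult.Words

/-!
# Kernel checks of the triple cover matrices of the presented Fischer group on 22 letters
-/

set_option autoImplicit false
set_option maxRecDepth 100000

namespace CfsgLib.Fi22Mult

open CfsgLib.Presented

open MatCheck in
theorem rows_data_ok : dataOK 54 6 Rows.idx Rows.gens = true := by decide +kernel

/-- The words which are the identity in the triple cover, the spider word up to the scalar. -/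
def matWords : List (List ℕ) :=
  (Fi22UCert.relWords.map fun w => if w == wpow spider 10 then w ++ [9] else w) ++
    (List.range 9).map (fun x => [x, x]) ++ (List.range 9).map (fun x => [x, 9, x, 9, 9]) ++ [[9, 9, 9]]

theorem spider_mem : Fi22UCert.relWords.contains (wpow spider 10) = true := by decide +kernel

open MatCheck in
theorem matWords_ok : (matWords.all fun w => check 54 2 6 Rows.idx Rows.gens w) = true := by
  decide +kernel

end CfsgLib.Fi22Mult
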