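import Cfsg.Agent.Lib.Presented.Fi22Mult.Generator
import Cfsg.Agent.Lib.Presented.Fi22Mult.RowsCheck
import Cfsg.Agent.Lib.Presented.Fi22Simple
import Cfsg.Agent.Lib.Schur.MultiplierU43
import Mathlib.LinearAlgebra.Matrix.GeneralLinearGroup.Defs
import Mathlib.GroupTheory.SpecificGroups.Cyclic
import Mathlib.GroupTheory.Abelianization.Defs

/-!
# The triple cover of Fi₂₂

A 27-dimensional representation over four elements, written over two elements.
-/

set_option autoImplicit false
set_option maxRecDepth 8000

namespace CfsgLib.Fi22Mult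

open CfsgLib.Presented
open CfsgLib.Presented.Fi22UCosets (letters letters_valid nodes_valid full idxOf genOf relWords_eq)
open CfsgLib.Fi23Mult (adjB)
open MatCheck
open scoped commutatorElement

/-- The matrix of a letter. -/
noncomputable def rowMat (x : ℕ) : Matrix (Fin 54) (Fin 54) (ZMod 2) := mat 54 2 Rows.gens x

theorem mat_word {w : List ℕ} (hw : w ∈ matWords) : (w.map rowMat).prod = 1 :=
  (check_spec rows_data_ok (List.all_eq_true.1 matWords_ok w hw)).2

theorem rowMat_sq {x : ℕ} (hx : x < 9) : rowMat x * rowMat x = 1 := by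
  simpa using mat_word (w := [x, x]) (by simp [matWords, hx])

theorem rowMat_scalar : rowMat 9 * (rowMat 9 * rowMat 9) = 1 := by
  simpa using mat_word (w := [9, 9, 9]) (by simp [matWords])

/-- The scalar of order three. -/
noncomputable def omega : GL (Fin 54) (ZMod 2) :=
  ⟨rowMat 9, rowMat 9 * rowMat 9, rowMat_scalar, by rw [mul_assoc]; exact rowMat_scalar⟩

theorem omega_cube : omega ^ 3 = 1 := Units.ext (by
  rw [Units.val_pow_eq_pow_val, pow_succ, pow_two, mul_assoc]
  exact rowMat_scalar)

theorem omega_ne : omega ≠ 1 := by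
  intro h
  have h0 : rowMat 9 = 1 := congrArg Units.val h
  have h1 := congrFun (congrFun h0 0) 0
  rw [rowMat, mat, RingHom.mapMatrix_apply, Matrix.map_apply, Matrix.one_apply_eq] at h1
  have e : coeff ((rowsOf Rows.gens 9).get 0) 0 = 0 := by decide +kernel
  change ((coeff ((rowsOf Rows.gens 9).get 0) 0 : ℕ) : ZMod 2) = 1 at h1
  rw [e] at h1
  exact absurd h1 (by decide)

attribute [irreducible] rowMat

/-- The centraliser of the scalar. -/
noncomputable abbrev C : Subgroup (GL (Fin 54) (ZMod 2)) := Subgroup.centralizer {omega}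

theorem comm_of_rel {G : Type*} [Group G] {u o : G} (hu : u * u = 1) (ho : o ^ 3 = 1)
    (h : u * o * (u * o * o) = 1) : u * o = o * u := by
  have h2 : o * o = o⁻¹ := eq_inv_of_mul_eq_one_left (by rw [← ho, pow_succ, pow_two])
  rw [mul_assoc u o o, h2] at h
  rw [eq_inv_of_mul_eq_one_left h, mul_inv_rev, inv_inv, inv_eq_of_mul_eq_one_right hu]

theorem center_of_singleton {G : Type*} [Group G] {o : G} (ho : o ∈ Subgroup.centralizer ({o} : Set G)) :
    (⟨o, ho⟩ : Subgroup.centralizer ({o} : Set G)) ∈ Subgroup.center (Subgroup.centralizer ({o} : Set G)) :=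
  Subgroup.mem_center_iff.2 fun g => Subtype.ext (Subgroup.mem_centralizer_singleton_iff.1 g.2)

/-- The matrix of a generator. -/
noncomputable def unitOf (g : Cfsg.Spor.Fi22.Gen) : GL (Fin 54) (ZMod 2) :=
  ⟨rowMat (idxOf g), rowMat (idxOf g), rowMat_sq (idx_lt g), rowMat_sq (idx_lt g)⟩

theorem unitOf_mem (g : Cfsg.Spor.Fi22.Gen) : unitOf g ∈ C := by
  rw [Subgroup.mem_centralizer_singleton_iff]
  have h := mat_word (w := [idxOf g, 9, idxOf g, 9, 9]) (by
    simp [matWords, idx_lt g])
  have hu : unitOf g * omega * (unitOf g * omega * omega) = 1 := Units.ext (by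
    simpa [unitOf, omega, mul_assoc] using h)
  exact comm_of_rel (u := unitOf g) (o := omega) (Units.ext (rowMat_sq (idx_lt g))) omega_cube hu

/-- A generator in the centraliser. -/
noncomputable def genC (g : Cfsg.Spor.Fi22.Gen) : C := ⟨unitOf g, unitOf_mem g⟩

theorem genC_sq (g : Cfsg.Spor.Fi22.Gen) : genC g * genC g = 1 :=
  Subtype.ext (Units.ext (rowMat_sq (idx_lt g)))

/-- The scalar in the centraliser. -/
noncomputable def omegaC : C := ⟨omega, Subgroup.mem_centralizer_singleton_iff.2 rfl⟩

theorem omegaC_central : omegaC ∈ Subgroup.center C := center_of_singleton _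

/-- The scalars. -/
noncomputable abbrev Z : Subgroup C := Subgroup.zpowers omegaC

instance Z_normal : Z.Normal := ⟨fun n hn g => by
  rw [Subgroup.mem_center_iff.1 ((Subgroup.zpowers_le (g := omegaC)).2 omegaC_central hn) g,
    mul_inv_cancel_right]
  exact hn⟩

theorem genOf_spec : ∀ x : Fin 9, (genOf x).2 = true ∧ idxOf (genOf x).1 = x := by decide +kernel

theorem evW_val {w : List ℕ} (hw : ∀ x ∈ w, x < 9) :
    ((evW (letters.ev genC) w : C) : GL (Fin 54) (ZMod 2)).val = (w.map rowMat).prod := by
  rw [evW, SubmonoidClass.coe_list_prod, List.map_map, ← Units.coeHom_apply, map_list_prod, List.map_map]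
  refine congrArg List.prod (List.map_congr_left fun x hx => ?_)
  obtain ⟨h1, h2⟩ := genOf_spec ⟨x, hw x hx⟩
  show ((letters.ev genC x : C) : GL (Fin 54) (ZMod 2)).val = _
  rw [Letters.ev, if_pos (show x < letters.A.eps from hw x hx)]
  show ((cond (genOf x).2 (genC (genOf x).1) (genC (genOf x).1)⁻¹ : C) : GL (Fin 54) (ZMod 2)).val = _
  rw [h1, cond_true]
  show rowMat (idxOf (genOf x).1) = _
  rw [h2]

theorem rel_small : ∀ w ∈ Fi22UCert.relWords, ∀ x ∈ w, x < 9 := by
  have e : (Fi22UCert.relWords.all fun w => w.all fun x => Nat.blt x 9) = true := by decide +kernel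
  intro w hw x hx
  have := List.all_eq_true.1 (List.all_eq_true.1 e w hw) x hx
  rwa [Nat.blt_eq] at this

theorem spider_value : evW (letters.ev genC) (wpow spider 10) = omegaC⁻¹ := by
  refine eq_inv_of_mul_eq_one_left (Subtype.ext (Units.ext ?_))
  have hs := List.contains_iff_mem.1 spider_mem
  show ((evW (letters.ev genC) (wpow spider 10) : C) : GL (Fin 54) (ZMod 2)).val * rowMat 9 = 1
  rw [evW_val (rel_small _ hs)]
  have hm : wpow spider 10 ++ [9] ∈ matWords := by
    simp only [matWords, List.mem_append, List.mem_map]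
    exact Or.inl (Or.inl (Or.inl ⟨_, hs, by rw [if_pos (beq_self_eq_true _)]⟩))
  simpa using mat_word hm

theorem rel_value {w : List ℕ} (hw : w ∈ Fi22UCert.relWords) : evW (letters.ev genC) w ∈ Z := by
  by_cases h : w = wpow spider 10
  · rw [h, spider_value]
    exact inv_mem (Subgroup.mem_zpowers _)
  · have hm : w ∈ matWords := by
      simp only [matWords, List.mem_append, List.mem_map]
      exact Or.inl (Or.inl (Or.inl ⟨w, hw, by rw [if_neg (by simpa using h)]⟩))
    have e : evW (letters.ev genC) w = 1 := Subtype.ext (Units.ext (by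
      rw [evW_val (rel_small w hw)]
      exact mat_word hm))
    rw [e]
    exact one_mem _

/-- The images of the generators modulo scalars. -/
noncomputable def img (g : Cfsg.Spor.Fi22.Gen) : C ⧸ Z := QuotientGroup.mk' Z (genC g)

theorem img_rels {w : List ℕ} (hw : w ∈ Fi22UCert.relWords) : evW (letters.ev img) w = 1 := by
  have h : evW (letters.ev img) w = QuotientGroup.mk' Z (evW (letters.ev genC) w) := by
    rw [evW, evW, map_list_prod, List.map_map]
    refine congrArg List.prod (List.map_congr_left fun x hx => ?_)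
    obtain ⟨h1, -⟩ := genOf_spec ⟨x, rel_small w hw x hx⟩
    have hlt : x < letters.A.eps := rel_small w hw x hx
    show letters.ev img x = QuotientGroup.mk' Z (letters.ev genC x)
    rw [Letters.ev, Letters.ev, if_pos hlt, if_pos hlt]
    show cond (genOf x).2 _ _ = QuotientGroup.mk' Z (cond (genOf x).2 _ _)
    rw [h1, cond_true, cond_true]
    rfl
  rw [h]
  exact (QuotientGroup.eq_one_iff _).2 (rel_value hw)

theorem img_kills : ∀ r ∈ Cfsg.Spor.coxRelators Cfsg.Spor.Fi22.edges ∪ {r | r ∈ Cfsg.Spor.Fi22.extra},
    FreeGroup.lift img r = 1 :=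
  Letters.kills letters_valid nodes_valid full
    (fun g _ => by rw [img, ← map_mul, genC_sq, map_one])
    (fun w hw => img_rels (by rw [relWords_eq]; exact List.mem_append_left _ hw))
    (fun w hw => img_rels (by rw [relWords_eq]; exact List.mem_append_right _ hw))

/-- The projective representation. -/
noncomputable def proj : Cfsg.Spor.Fi22 →* C ⧸ Z := PresentedGroup.toGroup img_kills

theorem proj_of (g : Cfsg.Spor.Fi22.Gen) : proj (PresentedGroup.of g) = QuotientGroup.mk' Z (genC g) :=
  PresentedGroup.toGroup.of img_kills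

theorem proj_injective : Function.Injective proj := by
  have := Fi22Simple.simple
  rcases proj.normal_ker.eq_bot_or_eq_top with h | h
  · exact proj.ker_eq_bot_iff.1 h
  exfalso
  have hb : proj (PresentedGroup.of Cfsg.Spor.Fi22.Gen.b) = 1 := by
    rw [← MonoidHom.mem_ker, h]
    exact Subgroup.mem_top _
  rw [proj_of] at hb
  obtain ⟨k, hk⟩ := (QuotientGroup.eq_one_iff _).1 hb
  have h3 : genC .b ^ 3 = 1 := by
    rw [← show omegaC ^ k = genC .b from hk, ← zpow_natCast, ← zpow_mul, mul_comm, zpow_mul, zpow_natCast,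
      show omegaC ^ 3 = 1 from Subtype.ext omega_cube, one_zpow]
  rw [pow_succ, pow_two, genC_sq, one_mul] at h3
  have h0 : rowMat 1 = 1 := congrArg (fun u : C => (u : GL (Fin 54) (ZMod 2)).val) h3
  obtain ⟨i, hi⟩ : ∃ i : Fin 54, coeff ((rowsOf Rows.gens 1).get i) i = 0 := by decide +kernel
  have h1 := congrFun (congrFun h0 i) i
  rw [rowMat, mat, RingHom.mapMatrix_apply, Matrix.map_apply, Matrix.one_apply_eq] at h1
  change ((coeff ((rowsOf Rows.gens 1).get i) i : ℕ) : ZMod 2) = 1 at h1
  rw [hi] at h1
  exact absurd h1 (by decide)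

theorem perfect : commutator Cfsg.Spor.Fi22 = ⊤ := by
  have := Fi22Simple.simple
  refine ((commutator_def Cfsg.Spor.Fi22 ▸ inferInstance :
    (commutator Cfsg.Spor.Fi22).Normal).eq_bot_or_eq_top).resolve_left fun hb => ?_
  let _ : CommGroup Cfsg.Spor.Fi22 := { (inferInstance : Group Cfsg.Spor.Fi22) with
    mul_comm := fun a b => commutatorElement_eq_one_iff_mul_comm.1 (Subgroup.mem_bot.1
      (hb ▸ Subgroup.commutator_mem_commutator (Subgroup.mem_top a) (Subgroup.mem_top b))) }
  have hp := IsSimpleGroup.prime_card (α := Cfsg.Spor.Fi22)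
  rw [Fi22Order.card_eq] at hp
  exact absurd hp (by norm_num)

/-- A stem extension with kernel of order three. -/
theorem exists_triple : ∃ (Γ : Type) (_ : Group Γ) (_ : Finite Γ) (τ : Γ →* Cfsg.Spor.Fi22),
    Cfsg.IsStemExtension τ ∧ Nonempty (τ.ker ≃* Multiplicative (ZMod 3)) := by
  let P : Subgroup C := proj.range.comap (QuotientGroup.mk' Z)
  let e := (MonoidHom.ofInjective proj_injective).symm
  let σ : P →* Cfsg.Spor.Fi22 := e.toMonoidHom.comp
    (((QuotientGroup.mk' Z).comp P.subtype).codRestrict proj.range fun p => p.2)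
  have hσ1 : ∀ p : P, σ p = 1 ↔ (p : C) ∈ Z := fun p => by
    show e _ = 1 ↔ _
    rw [MulEquiv.map_eq_one_iff, Subtype.ext_iff]
    exact QuotientGroup.eq_one_iff _
  have hσv : ∀ p : P, proj (σ p) = QuotientGroup.mk' Z (p : C) := fun p => by
    show proj (e _) = _
    exact MonoidHom.apply_ofInjective_symm proj_injective _
  have hsurj : Function.Surjective σ := fun g => by
    obtain ⟨c, hc⟩ := QuotientGroup.mk'_surjective Z (proj g)
    refine ⟨⟨c, ?_⟩, proj_injective (by rw [hσv]; exact hc)⟩
    show QuotientGroup.mk' Z c ∈ proj.range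
    exact ⟨g, hc.symm⟩
  have hcen : σ.ker ≤ Subgroup.center P := fun p hp => by
    have hc := (Subgroup.zpowers_le (g := omegaC)).2 omegaC_central ((hσ1 p).1 hp)
    exact Subgroup.mem_center_iff.2 fun q => Subtype.ext (Subgroup.mem_center_iff.1 hc q)
  obtain ⟨hτs, hperf⟩ := CfsgLib.Schur.U43.commutator_perfect σ hsurj hcen perfect
  let τ : commutator P →* Cfsg.Spor.Fi22 := σ.comp (commutator P).subtype
  have hgenP : ∀ g, genC g ∈ P := fun g => by
    show QuotientGroup.mk' Z (genC g) ∈ proj.range
    exact ⟨_, proj_of g⟩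
  let gP : Cfsg.Spor.Fi22.Gen → P := fun g => ⟨genC g, hgenP g⟩
  have hωP : omegaC ∈ P := by
    show QuotientGroup.mk' Z omegaC ∈ proj.range
    exact ⟨1, (map_one proj).trans ((QuotientGroup.eq_one_iff _).2 (Subgroup.mem_zpowers _)).symm⟩
  have hωcomm : (⟨omegaC, hωP⟩ : P) ∈ commutator P := by
    let a : P →* Abelianization P := Abelianization.of
    have hval : ∀ w, (∀ x ∈ w, x < 9) →
        ((evW (letters.ev gP) w : P) : C) = evW (letters.ev genC) w := by
      intro w hw
      rw [evW, evW, SubmonoidClass.coe_list_prod, List.map_map]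
      refine congrArg List.prod (List.map_congr_left fun x hx => ?_)
      have hlt : x < letters.A.eps := hw x hx
      show ((letters.ev gP x : P) : C) = letters.ev genC x
      rw [Letters.ev, Letters.ev, if_pos hlt, if_pos hlt]
      cases (letters.gen x).2 <;> rfl
    let v : ℕ → Abelianization P := fun x => a (letters.ev gP x)
    have hb : ∀ x y : Fin 9, adjB edges x y = true → v x = v y := by
      intro x y hxy
      have hsq : ∀ z : Fin 9, v z * v z = 1 := fun z => by
        show a _ * a _ = 1
        rw [← map_mul, show letters.ev gP z * letters.ev gP z = 1 from Subtype.ext ?_, map_one]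
        obtain ⟨h1, -⟩ := genOf_spec z
        rw [Subgroup.coe_mul, Letters.ev, if_pos (show (z : ℕ) < letters.A.eps from z.2)]
        show (cond (genOf z).2 (gP (genOf z).1) (gP (genOf z).1)⁻¹ : P).1 *
          (cond (genOf z).2 (gP (genOf z).1) (gP (genOf z).1)⁻¹ : P).1 = 1
        rw [h1, cond_true]
        exact genC_sq _
      have key : ∀ p q : Fin 9, (p : ℕ) < q → adjB edges p q = true → v p = v q := by
        intro p q hlt h
        have hr := rel_tables p q hlt
        rw [h] at hr
        have hmem := List.contains_iff_mem.1 hr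
        simp only [if_true] at hmem
        have h1 : evW (letters.ev gP) [(p : ℕ), q, p, q, p, q] = 1 := by
          refine Subtype.ext ?_
          rw [hval _ (rel_small _ hmem)]
          refine Subtype.ext (Units.ext ?_)
          rw [evW_val (rel_small _ hmem)]
          refine mat_word ?_
          simp only [matWords, List.mem_append, List.mem_map]
          refine Or.inl (Or.inl (Or.inl ⟨_, hmem, ?_⟩))
          rw [if_neg]
          simp only [beq_iff_eq]
          intro hl
          have := congrArg List.length hl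
          rw [lengths.1] at this
          simp at this
        have h2 := congrArg a h1
        simp only [evW_cons, evW_nil, mul_one, map_mul, map_one] at h2
        have h3 : (v p * v p) * (v q * v q) * (v p * v q) = 1 := by
          rw [← h2]
          simp only [v]
          ac_rfl
        rw [hsq, hsq, one_mul, one_mul] at h3
        rw [eq_inv_of_mul_eq_one_left h3]
        exact inv_eq_of_mul_eq_one_left (hsq q)
      rcases Nat.lt_trichotomy (x : ℕ) y with h | h | h
      · exact key x y h hxy
      · rw [Fin.ext h]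
      · exact (key y x h (adjB_symm x y ▸ hxy)).symm
    have e1 := hb 0 1 (by decide)
    have e2 := hb 1 2 (by decide)
    have e3 := hb 2 3 (by decide)
    have e4 := hb 3 4 (by decide)
    have e5 := hb 4 5 (by decide)
    have e7 := hb 3 7 (by decide)
    have e8 := hb 7 8 (by decide)
    have f1 : v 1 = v 0 := e1.symm
    have f2 : v 2 = v 0 := e2.symm.trans f1
    have f3 : v 3 = v 0 := e3.symm.trans f2
    have f4 : v 4 = v 0 := e4.symm.trans f3
    have f5 : v 5 = v 0 := e5.symm.trans f4
    have f7 : v 7 = v 0 := e7.symm.trans f3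
    have f8 : v 8 = v 0 := e8.symm.trans f7
    have hs : a (evW (letters.ev gP) (wpow spider 10)) = 1 := by
      rw [evW, map_list_prod, List.map_map]
      have hall : ∀ x ∈ wpow spider 10, (a ∘ letters.ev gP) x = v 0 := by
        intro x hx
        have hm : x ∈ spider := by
          simp only [wpow, List.mem_flatten, List.mem_replicate] at hx
          obtain ⟨l, ⟨-, rfl⟩, hl⟩ := hx
          exact hl
        simp only [spider, List.mem_cons, List.not_mem_nil, or_false] at hm
        rcases hm with rfl | rfl | rfl | rfl | rfl | rfl | rfl | rfl | rfl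
        exacts [f3, f2, f1, f3, f4, f5, f3, f7, f8]
      rw [List.map_congr_left hall, List.map_const', List.prod_replicate, lengths.1,
        show 90 = 2 * 45 from rfl, pow_mul, pow_two]
      have h0 : v 0 * v 0 = 1 := by
        show a _ * a _ = 1
        rw [← map_mul, show letters.ev gP 0 * letters.ev gP 0 = 1 from Subtype.ext (genC_sq _), map_one]
      rw [h0, one_pow]
    have hs' : (evW (letters.ev gP) (wpow spider 10))⁻¹ = (⟨omegaC, hωP⟩ : P) := Subtype.ext (by
      rw [Subgroup.coe_inv, hval _ (rel_small _ (List.contains_iff_mem.1 spider_mem)), spider_value, inv_inv])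
    rw [← hs']
    refine inv_mem ?_
    exact (QuotientGroup.eq_one_iff _).1 hs
  have hτ : Cfsg.IsStemExtension τ := by
    refine ⟨hτs, fun p hp => ?_, fun p _ => hperf.symm ▸ Subgroup.mem_top p⟩
    exact Subgroup.mem_center_iff.2 fun q =>
      Subtype.ext (Subgroup.mem_center_iff.1 (hcen (show (p : P) ∈ σ.ker from hp)) q)
  let inc : τ.ker →* C := P.subtype.comp ((commutator P).subtype.comp τ.ker.subtype)
  have hinc : Function.Injective inc :=
    Subtype.val_injective.comp (Subtype.val_injective.comp Subtype.val_injective)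
  have hrange : inc.range = Z := by
    refine le_antisymm ?_ ((Subgroup.zpowers_le).2 ?_)
    · rintro _ ⟨p, rfl⟩
      exact (hσ1 _).1 p.2
    · exact ⟨⟨⟨⟨omegaC, hωP⟩, hωcomm⟩, (hσ1 _).2 (Subgroup.mem_zpowers _)⟩, rfl⟩
  have hcard : Nat.card τ.ker = 3 := by
    have : Fact (Nat.Prime 3) := ⟨Nat.prime_three⟩
    rw [Nat.card_congr (MonoidHom.ofInjective hinc).toEquiv, hrange, Nat.card_zpowers]
    exact orderOf_eq_prime (Subtype.ext omega_cube) fun h => omega_ne (congrArg Subtype.val h)
  have hcyc : IsCyclic τ.ker := isCyclic_of_prime_card (hp := ⟨Nat.prime_three⟩) hcard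
  exact ⟨commutator P, inferInstance, inferInstance, τ, hτ,
    ⟨((zmodCyclicMulEquiv hcyc).symm.trans
      (AddEquiv.toMultiplicative (ZMod.ringEquivCongr hcard).toAddEquiv))⟩⟩

end CfsgLib.Fi22Mult
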