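import Cfsg.Agent.Lib.Presented.Fi22Mult.Lifts
import Cfsg.Agent.Lib.Schur.Basic

/-!
# The kernel of a stem extension of Fi₂₂ is cyclic of order dividing six

The values of the three further relators are cancelled by rewriting: the square of either value of type E₇
and the cube of the spider value are powers of the common square of the lifts.
-/

set_option autoImplicit false
set_option maxRecDepth 8000

namespace CfsgLib.Fi22Mult

open CfsgLib.Presented
open CfsgLib.Presented.Fi22UCosets (ev letters letters_valid nodes_valid full idxOf relWords_eq rels_hold)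
open CfsgLib.Fi23Mult (adjB runW Holds)
open scoped commutatorElement

/-- Every relator word is one of the known ones. -/
theorem relWords_shape : (Fi22UCert.relWords.all fun w =>
    w == wpow spider 10 || w == wpow wordA 9 || w == wpow wordB 9 ||
    (List.range 9).any fun x => (List.range 9).any fun y =>
      !(x == y) && w == (if adjB edges x y then [x, y, x, y, x, y] else [x, y, x, y])) = true := by
  decide +kernel

theorem extra_contains : Fi22UCert.relWords.contains (wpow spider 10) = true ∧
    Fi22UCert.relWords.contains (wpow wordA 9) = true ∧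
    Fi22UCert.relWords.contains (wpow wordB 9) = true := by decide +kernel

theorem lengths : (wpow spider 10).length = 90 ∧ (wpow wordA 9).length = 63 ∧
    (wpow wordB 9).length = 63 ∧ (wpow wordA 18).length = 126 ∧ (wpow wordB 18).length = 126 ∧
    tripleWord.length = 308 ∧ conj1.length = 13 ∧ conj2.length = 6 ∧
    (∀ x ∈ conj1 ++ conj2 ++ wpow spider 10 ++ wpow wordA 9 ++ wpow wordB 9, x < 9) := by decide +kernel

variable {Γ : Type*} [Group Γ]

/-- Relators hold for involutive lifts with the three further values trivial. -/
theorem relWord_one {S : ℕ → Γ} (H : Holds edges S 1) (hs : evW S (wpow spider 10) = 1)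
    (hA : evW S (wpow wordA 9) = 1) (hB : evW S (wpow wordB 9) = 1)
    {w : List ℕ} (hw : w ∈ Fi22UCert.relWords) : evW S w = 1 := by
  have h := List.all_eq_true.1 relWords_shape w hw
  simp only [Bool.or_eq_true, List.any_eq_true, Bool.and_eq_true, beq_iff_eq, List.mem_range,
    Bool.not_eq_true', beq_eq_false_iff_ne] at h
  rcases h with ((rfl | rfl) | rfl) | ⟨x, hx, y, hy, hne, rfl⟩
  · exact hs
  · exact hA
  · exact hB
  · have hx : x < 10 := hx.trans (by decide)
    have hy : y < 10 := hy.trans (by decide)
    split
    · next ha =>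
      calc evW S [x, y, x, y, x, y] = S x * S y * S x * (S y * S x * S y) := by simp [mul_assoc]
        _ = S x * S y * S x * (S x * S y * S x) := by rw [H.braid x hx y hy ha]
        _ = S x * S y * (S x * S x) * S y * S x := by simp only [mul_assoc]
        _ = 1 := by rw [H.sq x hx, mul_one, mul_assoc (S x) (S y), H.sq y hy, mul_one, H.sq x hx]
    · next ha =>
      calc evW S [x, y, x, y] = S x * S y * (S x * S y) := by simp [mul_assoc]
        _ = S x * S y * (S y * S x) := by rw [H.comm x hx y hy hne (Bool.eq_false_iff.2 ha)]
        _ = S x * (S y * S y) * S x := by simp only [mul_assoc]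
        _ = 1 := by rw [H.sq y hy, mul_one, H.sq x hx]

variable {S : ℕ → Γ} {c : Γ} (H : Holds edges S c)
include H

/-- A word followed by its reverse. -/
theorem pal : ∀ {u : List ℕ}, (∀ x ∈ u, x < 10) → evW S u * evW S u.reverse = c ^ u.length
  | [], _ => by simp
  | x :: u, h => by
    rw [List.reverse_cons, evW_append, evW_cons, evW_cons, evW_nil, mul_one,
      show S x * evW S u * (evW S u.reverse * S x) = S x * (evW S u * evW S u.reverse) * S x by
        simp only [mul_assoc],
      pal fun y hy => h y (List.mem_cons_of_mem _ hy), ← ((H.central _).pow_left _).eq, mul_assoc,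
      H.sq x (h x List.mem_cons_self), ← pow_succ, List.length_cons]

omit H in
/-- The value of a word in lifts shifted by a central element. -/
theorem evW_shift {ζ : Γ} (hζ : ∀ g, Commute ζ g) :
    ∀ l : List ℕ, evW (fun x => S x * ζ) l = evW S l * ζ ^ l.length
  | [] => by simp
  | a :: l => by
    rw [evW_cons, evW_cons, evW_shift hζ l, (hζ (evW S l)).mul_mul_mul_comm, List.length_cons, pow_succ']

theorem value_A : evW S (wpow wordA 9) ^ 2 = c ^ 63 := by
  obtain ⟨k, hk, e⟩ := H.run_sound _ movesA_ok
  rw [lengths.2.2.2.1, List.length_nil] at hk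
  rw [evW_nil, mul_one, show k = 63 by omega] at e
  rw [evW_wpow] at e ⊢
  rw [← pow_mul]
  exact e

theorem value_B : evW S (wpow wordB 9) ^ 2 = c ^ 63 := by
  obtain ⟨k, hk, e⟩ := H.run_sound _ movesB_ok
  rw [lengths.2.2.2.2.1, List.length_nil] at hk
  rw [evW_nil, mul_one, show k = 63 by omega] at e
  rw [evW_wpow] at e ⊢
  rw [← pow_mul]
  exact e

theorem value_spider (hcen : ∀ g, Commute (evW S (wpow spider 10)) g) :
    evW S (wpow spider 10) ^ 3 * c ^ 19 = c ^ 154 := by
  obtain ⟨k, hk, e⟩ := H.run_sound _ movesS_ok
  obtain ⟨-, -, -, -, -, hl, hl1, hl2, hlt⟩ := lengths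
  rw [hl, List.length_nil] at hk
  rw [evW_nil, mul_one, show k = 154 by omega] at e
  set r := evW S (wpow spider 10) with hr
  have h1 : ∀ x ∈ conj1, x < 10 := fun x hx => (hlt x (by simp [hx])).trans (by decide)
  have h2 : ∀ x ∈ conj2, x < 10 := fun x hx => (hlt x (by simp [hx])).trans (by decide)
  rw [tripleWord, evW_append, evW_append, evW_append, evW_append, evW_append, evW_append, ← hr] at e
  rw [mul_assoc (evW S conj1), (hcen (evW S conj1.reverse)).eq, ← mul_assoc, pal H h1,
    mul_assoc _ (evW S conj2) r, ← (hcen (evW S conj2)).eq, ← mul_assoc,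
    mul_assoc _ (evW S conj2) (evW S conj2.reverse), pal H h2, hl1, hl2,
    mul_assoc (c ^ 13) r r, mul_assoc (c ^ 13) (r * r) r, ((H.central _).pow_left 13).eq, mul_assoc,
    ← pow_add] at e
  rw [pow_succ, pow_succ, pow_one]
  exact e

end CfsgLib.Fi22Mult
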